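import Mathlib

/-!
# Elementwise criteria for quasi-isomorphisms of complexes of abelian sheaves
-/

universe w v u

open CategoryTheory Limits Opposite

namespace Groth.Agent.ProDI71

/-- elementwise content of a quasi-isomorphism of complexes of abelian groups -/
theorem elements_of_quasiIso {K L : CochainComplex AddCommGrpCat.{w} ℤ} (φ : K ⟶ L) [QuasiIso φ]
    (i j k : ℤ) (hi : i + 1 = j) (hk : j + 1 = k) :
    (∀ y : L.X j, L.d j k y = 0 → ∃ x z, K.d j k x = 0 ∧ y = φ.f j x + L.d i j z) ∧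
    (∀ x : K.X j, K.d j k x = 0 → ∀ z, φ.f j x = L.d i j z → ∃ w, x = K.d i j w) := by
  have h := (quasiIsoAt_iff' φ i j k (CochainComplex.prev ℤ j ▸ by omega)
    (CochainComplex.next ℤ j ▸ hk)).1 inferInstance
  let ψ := (HomologicalComplex.shortComplexFunctor' AddCommGrpCat.{w} (ComplexShape.up ℤ) i j k).map φ
  let γ : ShortComplex.LeftHomologyMapData ψ (K.sc' i j k).abLeftHomologyData
    (L.sc' i j k).abLeftHomologyData := Classical.arbitrary _
  have := (γ.quasiIso_iff).1 h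
  have hb := ConcreteCategory.bijective_of_isIso γ.φH
  have hK : ∀ x : (K.sc' i j k).abLeftHomologyData.K, ((γ.φK x).1 : L.X j) = φ.f j x.1 :=
    fun x => congrArg (fun g : (K.sc' i j k).abLeftHomologyData.K ⟶ L.X j => g x) γ.commi
  have hH : ∀ x, γ.φH ((K.sc' i j k).abLeftHomologyData.π x) =
      (L.sc' i j k).abLeftHomologyData.π (γ.φK x) :=
    fun x => congrArg (fun g : (K.sc' i j k).abLeftHomologyData.K ⟶
      (L.sc' i j k).abLeftHomologyData.H => g x) γ.commπ
  refine ⟨fun y hy => ?_, fun x hx z hz => ?_⟩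
  · obtain ⟨c, hc⟩ := hb.2 ((L.sc' i j k).abLeftHomologyData.π ⟨y, hy⟩)
    obtain ⟨x, rfl⟩ := QuotientAddGroup.mk_surjective c
    have h2 := (hH x).symm.trans hc
    obtain ⟨z, hz⟩ := QuotientAddGroup.eq.1 h2
    have h3 : L.d i j z = HAdd.hAdd (α := L.X j) (β := L.X j) (-(γ.φK x).1) y := congrArg Subtype.val hz
    refine ⟨x.1, z, x.2, ?_⟩
    exact (add_neg_cancel_left (G := L.X j) _ y).symm.trans
      (congrArg₂ (fun a b : L.X j => a + b) (hK x) h3.symm)
  · have h1 : γ.φH ((K.sc' i j k).abLeftHomologyData.π ⟨x, hx⟩) = γ.φH 0 := by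
      refine ((hH ⟨x, hx⟩).trans ?_).trans (map_zero γ.φH.hom).symm
      refine (QuotientAddGroup.eq_zero_iff _).2 ⟨z, Subtype.ext ?_⟩
      exact hz.symm.trans (hK ⟨x, hx⟩).symm
    obtain ⟨w, hw⟩ := (QuotientAddGroup.eq_zero_iff _).1 (hb.1 h1)
    exact ⟨w, (congrArg Subtype.val hw).symm⟩

variable {C : Type u} [Category.{v} C] {J : GrothendieckTopology C} [HasSheafify J AddCommGrpCat.{w}]
  [J.WEqualsLocallyBijective AddCommGrpCat.{w}]

omit [HasSheafify J AddCommGrpCat.{w}] [J.WEqualsLocallyBijective AddCommGrpCat.{w}] in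
theorem map_f_apply {A B : Sheaf J AddCommGrpCat.{w}} {D : Sheaf J AddCommGrpCat.{w}} (f : A ⟶ B) (g : B ⟶ D)
    (h : A ⟶ D) (e : f ≫ g = h) (U : Cᵒᵖ) (x : A.obj.obj U) :
    g.hom.app U (f.hom.app U x) = h.hom.app U x := by
  rw [← e]; rfl

variable {S : ShortComplex (Sheaf J AddCommGrpCat.{w})}

omit [J.WEqualsLocallyBijective AddCommGrpCat.{w}] in
theorem exists_cycle (U : Cᵒᵖ) (x : S.X₂.obj.obj U) (hx : S.g.hom.app U x = 0) :
    ∃ c : S.cycles.obj.obj U, S.iCycles.hom.app U c = x := by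
  let T := ShortComplex.mk S.iCycles S.g S.iCycles_g
  have hT : T.Exact := ShortComplex.exact_of_f_is_kernel _ S.cyclesIsKernel
  exact (ShortComplex.ab_exact_iff _).1 (hT.map_of_mono_of_preservesKernel
    (sheafToPresheaf J AddCommGrpCat.{w} ⋙ (evaluation _ _).obj U) inferInstance inferInstance) x hx

omit [J.WEqualsLocallyBijective AddCommGrpCat.{w}] in
theorem iCycles_injective (U : Cᵒᵖ) : Function.Injective (S.iCycles.hom.app U) :=
  (AddCommGrpCat.mono_iff_injective _).1
    (inferInstanceAs (Mono ((sheafToPresheaf J AddCommGrpCat.{w} ⋙ (evaluation _ _).obj U).map S.iCycles)))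

theorem exists_local_preimage (hS : S.Exact) {U : C} (x : S.X₂.obj.obj (op U))
    (hx : S.g.hom.app (op U) x = 0) :
    ∃ R ∈ J U, ∀ ⦃V⦄ (f : V ⟶ U), R.arrows f → ∃ y, S.f.hom.app (op V) y = S.X₂.obj.map f.op x := by
  obtain ⟨c, rfl⟩ := exists_cycle (op U) x hx
  have := hS.epi_toCycles
  have hl : Sheaf.IsLocallySurjective S.toCycles := (Sheaf.isLocallySurjective_iff_epi' _ _).2 this
  refine ⟨_, hl.imageSieve_mem c, fun V f hf => ?_⟩
  obtain ⟨y, hy⟩ := hf
  refine ⟨y, ?_⟩
  rw [← map_f_apply S.toCycles S.iCycles S.f (by simp), hy, NatTrans.naturality_apply]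

/-- a map of short complexes of sheaves which is locally bijective on classes is a quasi-iso -/
theorem quasiIso_of_local {T : ShortComplex (Sheaf J AddCommGrpCat.{w})} (φ : S ⟶ T)
    (hsurj : ∀ (U : C) (y : T.X₂.obj.obj (op U)), T.g.hom.app (op U) y = 0 →
      ∃ R ∈ J U, ∀ ⦃V⦄ (f : V ⟶ U), R.arrows f → ∃ x, S.g.hom.app (op V) x = 0 ∧
        ∃ z, T.X₂.obj.map f.op y = φ.τ₂.hom.app (op V) x + T.f.hom.app (op V) z)
    (hinj : ∀ (U : C) (x : S.X₂.obj.obj (op U)), S.g.hom.app (op U) x = 0 →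
      ∀ z, φ.τ₂.hom.app (op U) x = T.f.hom.app (op U) z →
        ∃ R ∈ J U, ∀ ⦃V⦄ (f : V ⟶ U), R.arrows f → ∃ w, S.X₂.obj.map f.op x = S.f.hom.app (op V) w) :
    ShortComplex.QuasiIso φ := by
  rw [ShortComplex.quasiIso_iff]
  have hepi : Epi (ShortComplex.homologyMap φ) := by
    let d : S.cycles ⊞ T.X₁ ⟶ T.cycles := biprod.desc (ShortComplex.cyclesMap φ) T.toCycles
    have : Epi d := by
      refine (Sheaf.isLocallySurjective_iff_epi' _ d).1 ⟨fun {U} z => ?_⟩
      obtain ⟨R, hR, h⟩ := hsurj U (T.iCycles.hom.app (op U) z) (by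
        rw [map_f_apply T.iCycles T.g 0 T.iCycles_g]; rfl)
      refine J.superset_covering (fun V f hf => ?_) hR
      obtain ⟨x, hx, y, hy⟩ := h f hf
      obtain ⟨c, rfl⟩ := exists_cycle (op V) x hx
      refine ⟨(biprod.inl : _ ⟶ S.cycles ⊞ T.X₁).hom.app (op V) c +
        (biprod.inr : _ ⟶ S.cycles ⊞ T.X₁).hom.app (op V) y, iCycles_injective (op V) ?_⟩
      rw [map_add, map_f_apply biprod.inl d _ (biprod.inl_desc _ _),
        map_f_apply biprod.inr d _ (biprod.inr_desc _ _), map_add,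
        map_f_apply (ShortComplex.cyclesMap φ) T.iCycles _ rfl,
        map_f_apply T.toCycles T.iCycles T.f (by simp), NatTrans.naturality_apply, hy,
        map_f_apply S.iCycles φ.τ₂ _ rfl, ShortComplex.cyclesMap_i]
    have : Epi ((biprod.fst : S.cycles ⊞ T.X₁ ⟶ _) ≫ S.homologyπ ≫ ShortComplex.homologyMap φ) := by
      have e : (biprod.fst : S.cycles ⊞ T.X₁ ⟶ _) ≫ S.homologyπ ≫ ShortComplex.homologyMap φ =
          d ≫ T.homologyπ := biprod.hom_ext' _ _ (by simp [d]) (by simp [d])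
      rw [e]; exact epi_comp _ _
    have : Epi (S.homologyπ ≫ ShortComplex.homologyMap φ) := epi_of_epi (biprod.fst : S.cycles ⊞ T.X₁ ⟶ _) _
    exact epi_of_epi S.homologyπ _
  have hmono : Mono (ShortComplex.homologyMap φ) := by
    rw [Preadditive.mono_iff_cancel_zero]
    intro A h hh
    rw [← cancel_epi (pullback.fst h S.homologyπ), comp_zero, pullback.condition]
    have hq : pullback.snd h S.homologyπ ≫ S.homologyπ ≫ ShortComplex.homologyMap φ = 0 := by
      rw [← reassoc_of% (pullback.condition (f := h) (g := S.homologyπ)), hh, comp_zero]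
    generalize pullback.snd h S.homologyπ = q at hq ⊢
    refine Sheaf.hom_ext (NatTrans.ext (funext fun ⟨U⟩ => ?_))
    ext s
    set c := q.hom.app (op U) s with hc
    have h0 : T.homologyπ.hom.app (op U) ((ShortComplex.cyclesMap φ).hom.app (op U) c) = 0 := by
      rw [map_f_apply (ShortComplex.cyclesMap φ) T.homologyπ _ (ShortComplex.homologyπ_naturality φ).symm, hc,
        map_f_apply q _ 0 hq]
      rfl
    have hex : (ShortComplex.mk T.toCycles T.homologyπ T.toCycles_comp_homologyπ).Exact :=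
      ShortComplex.exact_of_g_is_cokernel _ T.homologyIsCokernel
    obtain ⟨R₀, hR₀, h₀⟩ := exists_local_preimage hex _ h0
    refine (S.homology.2.isSeparated U R₀ hR₀) _ _ fun V f hf => ?_
    obtain ⟨y, hy⟩ := h₀ f hf
    set c' := S.cycles.obj.map f.op c with hc'
    obtain ⟨R₁, hR₁, h₁⟩ := hinj V (S.iCycles.hom.app (op V) c')
      (by rw [map_f_apply S.iCycles S.g 0 S.iCycles_g]; rfl) y (by
        rw [map_f_apply S.iCycles φ.τ₂ _ rfl, ← ShortComplex.cyclesMap_i,
          ← map_f_apply (ShortComplex.cyclesMap φ) T.iCycles _ rfl, ← map_f_apply T.toCycles T.iCycles T.f (by simp),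
          hy, hc', NatTrans.naturality_apply (ShortComplex.cyclesMap φ).hom])
    refine (S.homology.2.isSeparated V R₁ hR₁) _ _ fun W g hg => ?_
    obtain ⟨w, hw⟩ := h₁ g hg
    have hc'' : S.cycles.obj.map g.op c' = S.toCycles.hom.app (op W) w :=
      iCycles_injective (op W) (by
        rw [NatTrans.naturality_apply, hw, map_f_apply S.toCycles S.iCycles S.f (by simp)])
    rw [← map_f_apply q S.homologyπ _ rfl, ← hc, ← NatTrans.naturality_apply, ← NatTrans.naturality_apply,
      ← hc', hc'', map_f_apply S.toCycles S.homologyπ 0 S.toCycles_comp_homologyπ]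
    simp
  exact isIso_of_mono_of_epi _

end Groth.Agent.ProDI71
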