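import Groth.Agent.ProDI71.Sys
import Groth.Agent.ProDI71.Elements
import Groth.Agent.TriCat.Adapted
import Groth.Agent.Der55.SpecialSystem

/-!
# The colimit comparison on pieces over affine opens
-/

universe u

open CategoryTheory CategoryTheory.Limits AlgebraicGeometry Opposite MorphismProperty

namespace Groth.Agent.ProDI71

open ProStage SitePullUnit ProEtLib
open scoped ZeroObject

set_option backward.isDefEq.respectTransparency.types false

theorem quasiIso_of_acyclic_cone {A : Type*} [Category A] [Abelian A] {K L : CochainComplex A ℤ} (g : K ⟶ L)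
    (h : (CochainComplex.mappingCone g).Acyclic) : QuasiIso g := by
  rw [← HomologicalComplex.mem_quasiIso_iff, ← HomotopyCategory.quotient_map_mem_quasiIso_iff,
    HomotopyCategory.quasiIso_eq_trW_subcategoryAcyclic]
  exact ((HomotopyCategory.subcategoryAcyclic A).trW_iff_of_distinguished _
      (HomotopyCategory.mappingCone_triangleh_distinguished g)).2
    ((HomotopyCategory.quotient_obj_mem_subcategoryAcyclic_iff_acyclic _).2 h)

variable {X : Scheme.{u}} [ProEtS.EpsCont X] [RepresentablyFlat (ProEtS.eps X)]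

local notation "G" => ProEtS.eps X
local notation "KT" => Scheme.ProEt.topology X

theorem cechClass_biprod {A B : ProEtS.AbP X} (hA : CechClass A) (hB : CechClass B) : CechClass (A ⊞ B) := by
  intro U₀ hU W P f w hW hP n z hz
  let D := proPowers f
  obtain ⟨a, ha⟩ := hA U₀ hU W P f w hW hP n ((biprod.fst : A ⊞ B ⟶ A).hom.app _ z)
    (by rw [← Powers.d_natural, hz, map_zero])
  obtain ⟨b, hb⟩ := hB U₀ hU W P f w hW hP n ((biprod.snd : A ⊞ B ⟶ B).hom.app _ z)
    (by rw [← Powers.d_natural, hz, map_zero])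
  refine ⟨(biprod.inl : A ⟶ A ⊞ B).hom.app _ a + (biprod.inr : B ⟶ A ⊞ B).hom.app _ b, ?_⟩
  have hadd : ∀ x y, D.d (A ⊞ B).obj (n := n) (x + y) = D.d (A ⊞ B).obj x + D.d (A ⊞ B).obj y := fun x y => by
    simp only [Powers.d, map_add, smul_add, Finset.sum_add_distrib]
  rw [hadd, ← Powers.d_natural, ← Powers.d_natural, ha, hb]
  exact (ConcreteCategory.congr_hom (congrArg (fun q : A ⊞ B ⟶ A ⊞ B => q.hom.app (op (D.obj (n + 1))))
    (biprod.total (X := A) (Y := B))) z)

/-- sections over an object -/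
noncomputable abbrev secP (V : X.ProEt) : ProEtS.AbP X ⥤ AddCommGrpCat.{u + 1} :=
  sheafToPresheaf KT AddCommGrpCat.{u + 1} ⋙ (evaluation X.ProEtᵒᵖ AddCommGrpCat.{u + 1}).obj (op V)

/-- sections over a limit of affine etale schemes are adapted to the Cech class -/
theorem isAdapted_secP {U₀ : X.Etale} [IsAffine U₀.left] {W : X.ProEt} {w : W ⟶ (ProEtS.eps X).obj U₀}
    (hW : IsPro (ovS w)) : TriCat.IsAdapted (secP W) (CechClass (X := X)) := by
  refine TriCat.IsAdapted.of_nonempty ⟨_, cechClass_injective (Injective.under (0 : ProEtS.AbP X))⟩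
    fun S hS h₁ h₂ => ⟨cechClass_X₃ hS h₁ h₂, ?_⟩
  have := hS.mono_f
  exact
    { exact := hS.exact.map_of_mono_of_preservesKernel _ inferInstance inferInstance
      mono_f := inferInstanceAs (Mono ((secP W).map S.f))
      epi_g := (AddCommGrpCat.epi_iff_surjective _).2 (surjective_of_cechClass hS h₁ hW) }

instance additive_pullC : (pullC X).Additive :=
  Functor.additive_of_iso (epsPullIso X)

variable (I : CochainComplex (EtCoh.Ab X) ℤ) [∀ n, Injective (I.X n)] [I.IsStrictlyGE 0]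
  (J : CochainComplex (ProEtS.AbP X) ℤ) [∀ n, Injective (J.X n)] [J.IsStrictlyGE 0]
  (ρ : ((pullC X).mapHomologicalComplex (ComplexShape.up ℤ)).obj I ⟶ J) [QuasiIso ρ]

omit [RepresentablyFlat (ProEtS.eps X)] in
theorem cechClass_pullC_injective (E : EtCoh.Ab X) [Injective E] : CechClass ((pullC X).obj E) :=
  cechClass_of_iso ((epsPullIso X).app E) (cechClass_epsPull_injective E)

/-- on limits of affine etale schemes the comparison is a quasi-isomorphism -/
theorem quasiIso_secP {U₀ : X.Etale} [IsAffine U₀.left] {W : X.ProEt} {w : W ⟶ (ProEtS.eps X).obj U₀}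
    (hW : IsPro (ovS w)) : QuasiIso (((secP W).mapHomologicalComplex (ComplexShape.up ℤ)).map ρ) := by
  let C := CochainComplex.mappingCone ρ
  let L := ((pullC X).mapHomologicalComplex (ComplexShape.up ℤ)).obj I
  have hC : ∀ n, CechClass (C.X n) := fun n =>
    cechClass_of_iso (HomologicalComplex.homotopyCofiber.XIsoBiprod ρ n (n + 1) rfl).symm
      (cechClass_biprod (cechClass_pullC_injective (I.X (n + 1))) (cechClass_injective (J.X n)))
  have : C.IsStrictlyGE (-1) := by
    rw [CochainComplex.isStrictlyGE_iff]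
    intro n hn
    refine IsZero.of_iso ?_ (HomologicalComplex.homotopyCofiber.XIsoBiprod ρ n (n + 1) rfl)
    have h1 : IsZero (L.X (n + 1)) := (pullC X).map_isZero (I.isZero_of_isStrictlyGE 0 (n + 1) (by omega))
    exact (biprod_isZero_iff _ _).2 ⟨h1, J.isZero_of_isStrictlyGE 0 n (by omega)⟩
  have hex := TriCat.acyclic_map_of_adapted (isAdapted_secP hW) C (-1)
    (Der55.acyclic_mappingCone_of_quasiIso ρ) hC
  refine quasiIso_of_acyclic_cone _ fun n => ?_
  exact (hex n).of_iso (CochainComplex.mappingCone.mapHomologicalComplexIso ρ (secP W))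

variable {K : Type u} [Category.{u} K] [IsCofiltered K] (S : Sys X K)

/-- the comparison on pieces -/
noncomputable def ev (O : S.T.left.Opens) (a : K) (n : ℤ) :
    (I.X n).obj.obj (op (S.pc O a)) ⟶ (J.X n).obj.obj (op (S.wp O)) :=
  (conUnit G KT (I.X n)).app (op (S.pc O a)) ≫ ((pullC X).obj (I.X n)).obj.map (S.pb O a).op ≫
    (ρ.f n).hom.app (op (S.wp O))

theorem ev_apply (O : S.T.left.Opens) (a : K) (n : ℤ) (x : (I.X n).obj.obj (op (S.pc O a))) :
    ev I J ρ S O a n x = (ρ.f n).hom.app (op (S.wp O)) (sGerm G KT (I.X n) (S.pb O a) x) := rfl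

theorem ev_pm {O' O : S.T.left.Opens} (h : O' ≤ O) {a a' : K} (g : a ⟶ a') (n : ℤ)
    (x : (I.X n).obj.obj (op (S.pc O a'))) :
    ev I J ρ S O' a n ((I.X n).obj.map (S.pm h g).op x) = (J.X n).obj.map (S.wm h).op (ev I J ρ S O a' n x) := by
  rw [ev_apply, ev_apply]
  refine Eq.trans ?_ (NatTrans.naturality_apply (ρ.f n).hom (S.wm h).op _)
  refine congrArg _ ((sGerm_map G KT (I.X n) (S.pm h g) (S.pb O' a) x).trans ?_)
  rw [S.pb_pm h g]
  exact (map_sGerm G KT (I.X n) _ _ x).symm

theorem ev_d (O : S.T.left.Opens) (a : K) (i j : ℤ) (x : (I.X i).obj.obj (op (S.pc O a))) :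
    ev I J ρ S O a j ((I.d i j).hom.app (op (S.pc O a)) x) = (J.d i j).hom.app (op (S.wp O)) (ev I J ρ S O a i x) := by
  rw [ev_apply, ev_apply, map_f_apply (ρ.f i) (J.d i j) _ (ρ.comm i j)]
  rw [← map_sGerm_app]
  rfl

/-- the comparison over an open is a quasi-isomorphism in the colimit -/
def Good (O : S.T.left.Opens) : Prop :=
  (∀ i j k : ℤ, i + 1 = j → j + 1 = k → ∀ z : (J.X j).obj.obj (op (S.wp O)),
    (J.d j k).hom.app (op (S.wp O)) z = 0 → ∃ (a : K) (x : (I.X j).obj.obj (op (S.pc O a))),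
      (I.d j k).hom.app (op (S.pc O a)) x = 0 ∧
        ∃ y, z = ev I J ρ S O a j x + (J.d i j).hom.app (op (S.wp O)) y) ∧
  (∀ i j k : ℤ, i + 1 = j → j + 1 = k → ∀ (a : K) (x : (I.X j).obj.obj (op (S.pc O a))),
    (I.d j k).hom.app (op (S.pc O a)) x = 0 → ∀ y, ev I J ρ S O a j x = (J.d i j).hom.app (op (S.wp O)) y →
      ∃ (a' : K) (g : a' ⟶ a) (v : (I.X i).obj.obj (op (S.pc O a'))),
        (I.X j).obj.map (S.pm (le_refl O) g).op x = (I.d i j).hom.app (op (S.pc O a')) v)

variable {S}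

theorem exists_piece_germ {O : S.T.left.Opens} (hO : IsAffineOpen O) (n : ℤ)
    (s : (pulled G KT (I.X n)).obj (op (S.wp O))) :
    ∃ (a : K) (x : (I.X n).obj.obj (op (S.pc O a))), sGerm G KT (I.X n) (S.pb O a) x = s := by
  let U₀ := EtFound.restrictEtale S.T O
  have : IsAffine U₀.left := hO
  obtain ⟨c, x, hx⟩ := exists_germ (I.X n) (S.isPro_wO O hO) s
  have : ∀ a, IsAffine ((S.gO O).obj a).left := S.isAffine_gO O hO
  obtain ⟨a, g, hg⟩ := ProStage.exists_factor (S.gO O) (S.piO O) (S.nonempty_isLimit_piO O).some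
    ((toOv U₀.left).obj c.right) c.hom
  let h : S.pc O a ⟶ (toX U₀).obj c.right := MorphismProperty.Over.homMk g.left (by
    change g.left ≫ ((toOv U₀.left).obj c.right).hom ≫ U₀.hom = _
    refine (Category.assoc _ _ _).symm.trans ((congrArg (· ≫ U₀.hom) (CategoryTheory.Over.w g)).trans ?_)
    exact MorphismProperty.Over.w (S.pq O a))
  refine ⟨a, (I.X n).obj.map h.op x, ?_⟩
  rw [sGerm_map, ← hx]
  exact congrArg (fun b => sGerm G KT (I.X n) b x) (MorphismProperty.Over.Hom.ext (congrArg (fun e => e.left) hg))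

theorem exists_piece_kill {O : S.T.left.Opens} (hO : IsAffineOpen O) (n : ℤ) (a : K)
    (x : (I.X n).obj.obj (op (S.pc O a))) (hx : sGerm G KT (I.X n) (S.pb O a) x = 0) :
    ∃ (a' : K) (g : a' ⟶ a), (I.X n).obj.map (S.pm (le_refl O) g).op x = 0 := by
  let D := S.gO O ⋙ CategoryTheory.Over.forget _
  have hA : ∀ a, IsAffine (D.obj a) := S.isAffine_gO O hO
  have : ∀ {i j} (g : i ⟶ j), IsAffineHom (D.map g) := fun {i j} g =>
    @isAffineHom_of_isAffine _ _ _ (hA i) (hA j)
  have : ∀ j, CompactSpace (D.obj j) := fun j => by have := hA j; infer_instance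
  obtain ⟨a', g, hg⟩ := exists_map_eq_top D _ (S.nonempty_isLimit_piO O).some (i := a) (agree (I.X n) x 0)
    (eq_top_iff.2 fun z _ => sGerm_agree (I.X n) (S.pb O a) x 0 (hx.trans (sGerm_zero (I.X n) _).symm) z)
  exact ⟨a', g, (map_eq_of_agree (I.X n) (S.pm (le_refl O) g) x 0 fun z =>
    hg.ge (trivial : z ∈ (⊤ : (D.obj a').Opens))).trans (map_zero _)⟩

/-- the affine case -/
theorem good_of_isAffineOpen {O : S.T.left.Opens} (hO : IsAffineOpen O) : Good I J ρ S O := by
  have : IsAffine (EtFound.restrictEtale S.T O).left := hO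
  have := quasiIso_secP I J ρ (S.isPro_wO O hO)
  refine ⟨fun i j k hij hjk z hz => ?_, fun i j k hij hjk a x hx y hy => ?_⟩
  · obtain ⟨l, y, hl, rfl⟩ := (elements_of_quasiIso (((secP (S.wp O)).mapHomologicalComplex _).map ρ) i j k hij hjk).1 z hz
    obtain ⟨a, x, rfl⟩ := exists_piece_germ I hO j l
    have hd : sGerm G KT (I.X k) (S.pb O a) ((I.d j k).hom.app (op (S.pc O a)) x) = 0 := by
      rw [← map_sGerm_app]; exact hl
    obtain ⟨a', g, hg⟩ := exists_piece_kill I hO k a _ hd
    refine ⟨a', (I.X j).obj.map (S.pm (le_refl O) g).op x, ?_, y, ?_⟩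
    · rw [NatTrans.naturality_apply]; exact hg
    · rw [ev_pm, show S.wm (le_refl O) = 𝟙 _ from S.wp_hom_ext (by rw [S.wm_ι, Category.id_comp]),
        op_id, CategoryTheory.Functor.map_id]
      rfl
  · obtain ⟨w, hw⟩ := (elements_of_quasiIso (((secP (S.wp O)).mapHomologicalComplex _).map ρ) i j k hij hjk).2
      (sGerm G KT (I.X j) (S.pb O a) x) (by
        refine (map_sGerm_app (I.d j k) _ x).trans ?_
        rw [hx, sGerm_zero]
        rfl) y hy
    obtain ⟨c, v, rfl⟩ := exists_piece_germ I hO i w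
    obtain ⟨e, ga, gc, -⟩ := IsCofilteredOrEmpty.cone_objs a c
    let x' := (I.X j).obj.map (S.pm (le_refl O) ga).op x
    let v' := (I.X i).obj.map (S.pm (le_refl O) gc).op v
    have hx' : sGerm G KT (I.X j) (S.pb O e) (x' - (I.d i j).hom.app (op (S.pc O e)) v') = 0 := by
      have hpm : ∀ {a' : K} (g : e ⟶ a'), S.pb O e ≫ (ProEtS.eps X).map (S.pm (le_refl O) g) = S.pb O a' := fun g => by
        rw [S.pb_pm, show S.wm (le_refl O) = 𝟙 _ from S.wp_hom_ext (by rw [S.wm_ι, Category.id_comp]), Category.id_comp]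
      rw [sGerm, map_sub, map_sub]
      refine sub_eq_zero.2 ?_
      change sGerm G KT (I.X j) (S.pb O e) x' = sGerm G KT (I.X j) (S.pb O e) _
      rw [← map_sGerm_app, sGerm_map, sGerm_map, hpm, hpm]
      exact hw
    obtain ⟨e', g, hg⟩ := exists_piece_kill I hO j e _ hx'
    refine ⟨e', g ≫ ga, (I.X i).obj.map (S.pm (le_refl O) g).op v', ?_⟩
    rw [map_sub, sub_eq_zero] at hg
    rw [NatTrans.naturality_apply, ← hg, ← Functor.map_comp_apply, ← op_comp, S.pm_comp]

end Groth.Agent.ProDI71
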