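import Groth.Agent.ProDI71.Qis
import Groth.Agent.ProEtLib.EpsExt
import Groth.Agent.TriCat.MapExtend
import Groth.Agent.TriCat.LiftKInj
import Mathlib.CategoryTheory.Abelian.Injective.Extend

/-!
# Higher direct images and the comparison with the etale site
-/

universe u

open CategoryTheory CategoryTheory.Limits AlgebraicGeometry Opposite

namespace Groth.Agent.ProDI71

open ProEtLib SitePullUnit

variable {X Y : Scheme.{u}}

theorem preservesHomology_pullC [ProEtS.EpsCont X] : (pullC X).PreservesHomology := by
  have := preservesFiniteLimits_epsPull (X := X)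
  have : PreservesColimitsOfSize.{0, 0} (ProEtS.epsPull X) := (ProEtS.epsAdj X).leftAdjoint_preservesColimits
  have : PreservesFiniteLimits (pullC X) := preservesFiniteLimits_of_natIso (epsPullIso X)
  have : PreservesFiniteColimits (pullC X) := preservesFiniteColimits_of_natIso (epsPullIso X)
  infer_instance

theorem mono_ι' {C : Type*} [Category C] [Abelian C] {Z : C} (R : InjectiveResolution Z) : Mono R.ι' := by
  have : ∀ n, Mono (R.ι'.f n) := fun n => by
    by_cases hn : n = 0
    · subst hn
      rw [InjectiveResolution.ι'_f_zero]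
      have h1 : IsIso (HomologicalComplex.singleObjXSelf (ComplexShape.up ℤ) 0 Z).hom := Iso.isIso_hom _
      have h2 : Mono (R.ι.f 0) := by infer_instance
      exact @mono_comp' _ _ _ _ _ _ _ (@IsIso.mono_of_iso _ _ _ _ _ h1)
        (@mono_comp' _ _ _ _ _ _ _ h2 (@IsIso.mono_of_iso _ _ _ _ _ (Iso.isIso_inv _)))
    · exact (HomologicalComplex.isZero_single_obj_X (ComplexShape.up ℤ) 0 Z n hn).mono _
  exact HomologicalComplex.mono_of_mono_f _ this

/-- homology of an exact functor applied to a complex -/
noncomputable def mapHomIso {C D ι : Type*} [Category C] [Category D] [Abelian C] [Abelian D] {c : ComplexShape ι}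
    (G : C ⥤ D) [G.Additive] [G.PreservesHomology] (K : HomologicalComplex C c) (i : ι) :
    ((G.mapHomologicalComplex c).obj K).homology i ≅ G.obj (K.homology i) :=
  ShortComplex.mapHomologyIso (K.sc i) G

/-- `R^q` computed on the complex indexed by `ℤ` -/
noncomputable def rightDerivedIsoExtend {C D : Type*} [Category C] [Category D] [Abelian C] [Abelian D]
    [HasInjectiveResolutions C] (G : C ⥤ D) [G.Additive] {Z : C} (R : InjectiveResolution Z) (q : ℕ) :
    (G.rightDerived q).obj Z ≅ ((G.mapHomologicalComplex (ComplexShape.up ℤ)).obj R.cochainComplex).homology (q : ℤ) :=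
  R.isoRightDerivedObj G q ≪≫
    ((((G.mapHomologicalComplex (ComplexShape.up ℕ)).obj R.cocomplex).extendHomologyIso
        ComplexShape.embeddingUpNat (j := q) (j' := (q : ℤ)) rfl).symm) ≪≫
    (HomologicalComplex.homologyFunctor D (ComplexShape.up ℤ) (q : ℤ)).mapIso
      (TriCat.mapExtendIso G ComplexShape.embeddingUpNat R.cocomplex).symm

theorem rpushP_pullC_iso (f : X ⟶ Y) [QuasiCompact f] [QuasiSeparated f] [ProEtS.EpsCont X] [ProEtS.EpsCont Y]
    [ProEtS.PCont f] (F : EtCoh.Ab X) (q : ℕ) :
    Nonempty ((ProEtS.RpushP f q).obj ((pullC X).obj F) ≅ (pullC Y).obj ((EtCoh.Rpush f q).obj F)) := by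
  have := repFlat_eps (X := X)
  have := repFlat_eps (X := Y)
  have := preservesHomology_pullC (X := X)
  have := preservesHomology_pullC (X := Y)
  let R := injectiveResolution F
  let R' := injectiveResolution ((pullC X).obj F)
  let α := ((pullC X).mapHomologicalComplex (ComplexShape.up ℤ)).map R.ι'
  have : Mono α := by
    have := mono_ι' R
    have : ∀ n, Mono (α.f n) := fun n => pullC_preservesMono (R.ι'.f n)
    exact HomologicalComplex.mono_of_mono_f _ this
  have : R'.cochainComplex.IsKInjective := CochainComplex.isKInjective_of_injective _ 0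
  let e : ((pullC X).mapHomologicalComplex (ComplexShape.up ℤ)).obj
      ((CochainComplex.singleFunctor (EtCoh.Ab X) 0).obj F) ≅
      (CochainComplex.singleFunctor (ProEtS.AbP X) 0).obj ((pullC X).obj F) :=
    (HomologicalComplex.singleMapHomologicalComplex (pullC X) (ComplexShape.up ℤ) 0).app F
  let γ := e.hom ≫ R'.ι'
  obtain ⟨ρ, hρ⟩ := TriCat.exists_extension_of_mono_quasiIso α γ
  have : QuasiIso γ := inferInstanceAs (QuasiIso (_ ≫ _))
  have : QuasiIso (α ≫ ρ) := by rw [hρ]; infer_instance
  have : QuasiIso ρ := quasiIso_of_comp_left α ρ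
  have hq := quasiIso_eta f R.cochainComplex R'.cochainComplex ρ
  have : IsIso (HomologicalComplex.homologyMap (eta f R.cochainComplex R'.cochainComplex ρ) (q : ℤ)) :=
    (quasiIsoAt_iff_isIso_homologyMap _ _).1 (hq.quasiIsoAt _)
  exact ⟨rightDerivedIsoExtend (ProEtS.pushP f) R' q ≪≫
    (asIso (HomologicalComplex.homologyMap (eta f R.cochainComplex R'.cochainComplex ρ) (q : ℤ))).symm ≪≫
    mapHomIso (pullC Y) _ (q : ℤ) ≪≫ (pullC Y).mapIso (rightDerivedIsoExtend (EtCoh.push f) R q).symm⟩

end Groth.Agent.ProDI71
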