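import Groth.Agent.ProDI71.MV
import Groth.Agent.ProLoc71.Push
import Groth.Agent.EtFound.PushOutside

/-!
# Systems coming from base change of limits of affine etale schemes
-/

universe u

open CategoryTheory CategoryTheory.Limits AlgebraicGeometry Opposite MorphismProperty

namespace Groth.Agent.ProDI71

open ProStage SitePullUnit ProEtLib

set_option backward.isDefEq.respectTransparency.types false
set_option maxHeartbeats 1000000

variable {X Y : Scheme.{u}}

/-- affine weakly etale schemes over an affine etale scheme are covered by limits of affine etale schemes -/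
theorem exists_pro_over {U₀ : Y.Etale} [IsAffine U₀.left] {V : Y.ProEt} [IsAffine V.left]
    (w : V ⟶ (ProEtS.eps Y).obj U₀) :
    ∃ (P : Y.ProEt) (g : P ⟶ V), Sieve.generate (Presieve.singleton g) ∈ Scheme.ProEt.topology Y V ∧
      IsPro (ovS (g ≫ w)) := by
  letI : Algebra Γ(U₀.left, ⊤) Γ(V.left, ⊤) := (ovS w).hom.appTop.hom.toAlgebra
  have : WeaklyEtale (show V.left ⟶ U₀.left from w.left) := weaklyEtale_left w
  have : WeaklyEtale (Spec.map (show V.left ⟶ U₀.left from w.left).appTop) := by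
    rw [(Iso.eq_inv_comp _).2 (Scheme.isoSpec_hom_naturality (show V.left ⟶ U₀.left from w.left))]
    infer_instance
  have : WeaklyEtale (Spec.map (CommRingCat.ofHom (algebraMap Γ(U₀.left, ⊤) Γ(V.left, ⊤)))) := this
  have := algebraWeaklyEtale_of_spec Γ(U₀.left, ⊤) Γ(V.left, ⊤)
  obtain ⟨R, _, _, _, htow, hff, hie', hie⟩ := S0176.result Γ(U₀.left, ⊤) Γ(V.left, ⊤)
  have : Algebra.WeaklyEtale Γ(V.left, ⊤) R := S0736.result _ _ hie'
  have := weaklyEtale_spec Γ(V.left, ⊤) R
  have : Surjective (Spec.map (CommRingCat.ofHom (algebraMap Γ(V.left, ⊤) R))) :=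
    ⟨PrimeSpectrum.comap_surjective_of_faithfullyFlat⟩
  let p : Spec (CommRingCat.of R) ⟶ V.left :=
    Spec.map (CommRingCat.ofHom (algebraMap Γ(V.left, ⊤) R)) ≫ V.left.isoSpec.inv
  have : WeaklyEtale V.hom := V.prop
  let P : Y.ProEt := Scheme.ProEt.mk (p ≫ V.hom)
  let g : P ⟶ V := MorphismProperty.Over.homMk p
  have hP : IsAffine P.left := inferInstanceAs (IsAffine (Spec (CommRingCat.of R)))
  refine ⟨P, g, @singleton_mem_topology _ _ _ g (inferInstanceAs (QuasiCompact p))
    (inferInstanceAs (Surjective p)), ?_⟩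
  have : IsAffine (ovS (g ≫ w)).left := hP
  refine isPro_of_isIndEtale ?_
  letI : Algebra Γ(U₀.left, ⊤) Γ(P.left, ⊤) := (ovS (g ≫ w)).hom.appTop.hom.toAlgebra
  show EtPBC.IsIndEtale Γ(U₀.left, ⊤) Γ(P.left, ⊤)
  refine IndEtLib.isIndEtale_of_factor fun Q _ _ _ φ => ?_
  let e : Γ(P.left, ⊤) ≃+* R := (Scheme.ΓSpecIso (CommRingCat.of R)).commRingCatIsoToRingEquiv
  have he : ∀ r, e (algebraMap Γ(U₀.left, ⊤) Γ(P.left, ⊤) r) = algebraMap Γ(U₀.left, ⊤) R r := fun r => by
    have h2 : p.appTop ≫ (Scheme.ΓSpecIso (CommRingCat.of R)).hom =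
        CommRingCat.ofHom (algebraMap Γ(V.left, ⊤) R) := by
      rw [Scheme.Hom.comp_appTop, Category.assoc, Scheme.ΓSpecIso_naturality]
      have h3 := congrArg (fun f : V.left ⟶ V.left => f.appTop) V.left.isoSpec.hom_inv_id
      simp only [Scheme.Hom.comp_appTop, Scheme.isoSpec_hom, Scheme.toSpecΓ_appTop] at h3
      exact (Category.assoc _ _ _).symm.trans ((congrArg (· ≫ _) h3).trans (Category.id_comp _))
    rw [IsScalarTower.algebraMap_apply Γ(U₀.left, ⊤) Γ(V.left, ⊤) R r]
    refine Eq.trans ?_ (ConcreteCategory.congr_hom h2 _)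
    refine congrArg e (ConcreteCategory.congr_hom
      (Scheme.Hom.comp_appTop p (show V.left ⟶ U₀.left from w.left)) r)
  let e' : Γ(P.left, ⊤) ≃ₐ[Γ(U₀.left, ⊤)] R := AlgEquiv.ofRingEquiv (f := e) he
  obtain ⟨Y', hY, ⟨eY⟩⟩ := IndEtLib.exists_sys hie
  obtain ⟨j, ψ, hψ⟩ := Y'.exists_lift Q (eY.symm.toAlgHom.comp (e'.toAlgHom.comp φ))
  refine ⟨Y'.A j, inferInstance, inferInstance, hY j, ψ, e'.symm.toAlgHom.comp (eY.toAlgHom.comp (Y'.ι j)),
    AlgHom.ext fun q => ?_⟩
  simp only [AlgHom.comp_apply, AlgEquiv.toAlgHom_apply]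
  rw [show Y'.ι j (ψ q) = eY.symm (e' (φ q)) from AlgHom.congr_fun hψ q]
  simp

/-- a sieve containing all maps from limits of affine etale schemes over affines covers -/
theorem mem_of_pro_over {V : Y.ProEt} (S : Sieve V)
    (h : ∀ (U₀ : Y.Etale) (_ : IsAffine U₀.left) (P : Y.ProEt) (w : P ⟶ (ProEtS.eps Y).obj U₀) (g : P ⟶ V),
      IsPro (ovS w) → S.arrows g) :
    S ∈ Scheme.ProEt.topology Y V := by
  have hc : ∀ x : V.left, ∃ (O : Y.Opens) (W : V.left.Opens),
      IsAffineOpen O ∧ IsAffineOpen W ∧ x ∈ W ∧ W ≤ V.hom ⁻¹ᵁ O := fun x => by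
    obtain ⟨O, hO, hx, -⟩ := exists_isAffineOpen_mem_and_subset (show V.hom.base x ∈ (⊤ : Y.Opens) from trivial)
    obtain ⟨W, hW, hxW, hle⟩ := exists_isAffineOpen_mem_and_subset (show x ∈ V.hom ⁻¹ᵁ O from hx)
    exact ⟨O, W, hO, hW, hxW, hle⟩
  choose O W hO hW hx hle using hc
  let U₁ : V.left → Y.Etale := fun x => Scheme.Etale.mk (O x).ι
  let w₁ : ∀ x, opObj V (W x) ⟶ (ProEtS.eps Y).obj (U₁ x) := fun x => MorphismProperty.Over.homMk
    (Scheme.Hom.resLE (show V.left ⟶ Y from V.hom) (O x) (W x) (hle x)) (Scheme.Hom.resLE_comp_ι _ _)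
  refine GrothendieckTopology.transitive _ (opens_mem_topology V W fun x => ⟨x, hx x⟩) S ?_
  rintro Z f ⟨Z', a, _, ⟨x⟩, rfl⟩
  rw [Sieve.pullback_comp]
  apply GrothendieckTopology.pullback_stable
  let U₀ := U₁ x
  have : IsAffine U₀.left := hO x
  have : IsAffine (opObj V (W x)).left := hW x
  let w := w₁ x
  obtain ⟨P, g, hg, hP⟩ := exists_pro_over w
  refine GrothendieckTopology.superset_covering _ ?_ hg
  rintro T k ⟨P', b, _, ⟨⟩, rfl⟩
  refine Sieve.downward_closed _ ?_ b
  exact h U₀ ‹_› P (g ≫ w) (g ≫ opHom V (W x)) hP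

variable (f : X ⟶ Y) {U₀ : Y.Etale} [IsAffine U₀.left] {P : Y.ProEt} (w : P ⟶ (ProEtS.eps Y).obj U₀)

/-- stages -/
abbrev Stg : Type u := StructuredArrow (ovS w) (toOv U₀.left)

/-- base change of the diagram of stages -/
noncomputable abbrev bcStg : Stg w ⥤ X.Etale :=
  StructuredArrow.proj _ _ ⋙ toX U₀ ⋙ EtCoh.bc f

/-- the base change of a limit of stages is a limit -/
theorem nonempty_isLimit_bcStg (hP : IsPro (ovS w)) :
    Nonempty (IsLimit (Cone.mk ((ProEtS.bcP f).obj P).left
      { app := fun a => ((ProEtS.bcP f).map (sMap a)).left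
        naturality := fun a b g => by
          refine (Category.id_comp _).trans ?_
          exact congrArg (fun q => q.left) (((congrArg (ProEtS.bcP f).map (sMap_map g)).symm).trans
            ((ProEtS.bcP f).map_comp _ _)) } :
      Cone (bcStg f w ⋙ Scheme.Etale.forget X ⋙ CategoryTheory.Over.forget X))) := by
  let D : Stg w ⥤ CategoryTheory.Over Y :=
    StructuredArrow.proj _ _ ⋙ toX U₀ ⋙ Scheme.Etale.forget Y
  let c : Cone D :=
    { pt := CategoryTheory.Over.mk P.hom
      π :=
        { app := fun a => CategoryTheory.Over.homMk (sMap a).left (MorphismProperty.Over.w (sMap a))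
          naturality := fun a b g => CategoryTheory.Over.OverMorphism.ext (by
            refine (Category.id_comp _).trans ?_
            exact congrArg (fun q => q.left) (sMap_map g).symm) } }
  have : IsConnected (Stg w) := IsCofiltered.isConnected _
  have hc : IsLimit c := by
    refine isLimitOfReflects (CategoryTheory.Over.forget Y) ?_
    exact IsLimit.ofIsoLimit hP.isLimit.some (Cone.ext (Iso.refl _) fun a => (Category.id_comp _).symm)
  exact ⟨IsLimit.ofIsoLimit (isLimitOfPreserves (CategoryTheory.Over.pullback f ⋙ CategoryTheory.Over.forget X) hc)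
    (Cone.ext (Iso.refl _) fun a => (Category.id_comp _).symm)⟩

theorem isAffineHom_bc_map {U V : Y.Etale} (g : U ⟶ V) [IsAffineHom g.left] :
    IsAffineHom ((EtCoh.bc f).map g).left :=
  MorphismProperty.overPullbackMap (P := @IsAffineHom) f
    ((Scheme.Etale.forget Y).map g) ‹_›

theorem isAffineHom_bcP_map {U V : Y.ProEt} (g : U ⟶ V) [IsAffineHom g.left] :
    IsAffineHom ((ProEtS.bcP f).map g).left :=
  MorphismProperty.overPullbackMap (P := @IsAffineHom) f
    ((Scheme.ProEt.forget Y).map g) ‹_›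

theorem bcP_sMap_map {a a' : Stg w} (g : a ⟶ a') :
    (((ProEtS.bcP f).map (sMap a)) ≫ (ProEtS.eps X).map ((bcStg f w).map g)).left =
      ((ProEtS.bcP f).map (sMap a')).left := by
  change ((ProEtS.bcP f).map (sMap a)).left ≫ ((bcStg f w).map g).left = _
  refine Eq.trans ?_ (congrArg (fun q => ((ProEtS.bcP f).map q).left) (sMap_map g))
  rw [Functor.map_comp]
  rfl

/-- the system of base changes of stages -/
noncomputable def bcSys (hP : IsPro (ovS w)) : Sys X (Stg w) where
  D := bcStg f w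
  T := (EtCoh.bc f).obj U₀
  t a := (EtCoh.bc f).map (toXBase U₀ a.right)
  t_map {a a'} g := ((EtCoh.bc f).map_comp _ _).symm.trans (congrArg (EtCoh.bc f).map
    (MorphismProperty.Over.Hom.ext (CategoryTheory.Over.w ((toOv U₀.left).map g.right))))
  W := (ProEtS.bcP f).obj P
  b a := (ProEtS.bcP f).map (sMap a)
  b_map {a a'} g := MorphismProperty.Over.Hom.ext (bcP_sMap_map f w g)
  w := ((ProEtS.bcP f).map w).left
  hw a := congrArg (fun q => q.left)
    (((ProEtS.bcP f).map_comp _ _).symm.trans (congrArg (ProEtS.bcP f).map (sMap_base a)))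
  lim := (nonempty_isLimit_bcStg f w hP).some
  affine a O hO := by
    have : IsAffineHom (toXBase U₀ a.right).left :=
      @isAffineHom_of_isAffine _ _ _ (isAffine_toOv a.right) ‹IsAffine U₀.left›
    have := isAffineHom_bc_map f (toXBase U₀ a.right)
    exact hO.preimage ((EtCoh.bc f).map (toXBase U₀ a.right)).left
  affineW O hO := by
    have : IsAffineHom w.left := @isAffineHom_of_isAffine _ _ _ hP.isAffine ‹IsAffine U₀.left›
    have := isAffineHom_bcP_map f w
    exact @IsAffineOpen.preimage _ _ _ hO ((ProEtS.bcP f).map w).left this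

theorem qcqs_bcSys [QuasiCompact f] [QuasiSeparated f] (hP : IsPro (ovS w)) :
    CompactSpace (bcSys f w hP).T.left ∧ QuasiSeparatedSpace (bcSys f w hP).T.left := by
  have : IsAffine ((Functor.id Scheme.{u}).obj U₀.left) := ‹_›
  have hqc : QuasiCompact (pullback.fst U₀.hom f) := MorphismProperty.pullback_fst (P := @QuasiCompact) _ f ‹QuasiCompact f›
  have hqs : QuasiSeparated (pullback.fst U₀.hom f) := MorphismProperty.pullback_fst (P := @QuasiSeparated) _ f ‹QuasiSeparated f›
  exact ⟨@QuasiCompact.compactSpace_of_compactSpace _ _ (pullback.fst U₀.hom f) hqc inferInstance,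
    @quasiSeparatedSpace_of_quasiSeparated _ _ (pullback.fst U₀.hom f) inferInstance hqs⟩

end Groth.Agent.ProDI71
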