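import Groth.Agent.ProDI71.Base
import Groth.Agent.EtLC12.EtZarCompare

/-!
# Mayer-Vietoris for the colimit comparison
-/

universe u

open CategoryTheory CategoryTheory.Limits AlgebraicGeometry Opposite MorphismProperty

namespace Groth.Agent.ProDI71

open ProStage SitePullUnit ProEtLib

set_option backward.isDefEq.respectTransparency.types false
set_option maxHeartbeats 1000000

section Glue

universe w v' u'

variable {C : Type u'} [Category.{v'} C] {J : GrothendieckTopology C} (F : Sheaf J AddCommGrpCat.{w})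
  {P A B M : C} (jA : A ⟶ P) (jB : B ⟶ P) (mA : M ⟶ A) (mB : M ⟶ B)

/-- the two-element family -/
abbrev pairObj (A B : C) : Bool → C := fun i => if i then A else B

/-- the two-element family of maps -/
abbrev pairMap : ∀ i, pairObj A B i ⟶ P
  | true => jA
  | false => jB

theorem glue_pair [Mono jA] [Mono jB] (hJ : Sieve.ofArrows (pairObj A B) (pairMap jA jB) ∈ J P)
    (hm : ∀ (Z : C) (a : Z ⟶ A) (b : Z ⟶ B), a ≫ jA = b ≫ jB → ∃ c : Z ⟶ M, c ≫ mA = a ∧ c ≫ mB = b)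
    (s : F.obj.obj (op A)) (t : F.obj.obj (op B)) (h : F.obj.map mA.op s = F.obj.map mB.op t) :
    ∃ x, F.obj.map jA.op x = s ∧ F.obj.map jB.op x = t := by
  have hsh : Presieve.IsSheafFor (F.obj ⋙ CategoryTheory.forget AddCommGrpCat.{w})
      (Presieve.ofArrows (pairObj A B) (pairMap jA jB)) := by
    rw [Presieve.isSheafFor_iff_generate]
    exact (isSheaf_iff_isSheaf_of_type _ _).1
      ((sheafCompose J (CategoryTheory.forget AddCommGrpCat.{w})).obj F).property _ hJ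
  obtain ⟨x, hx, -⟩ := (Presieve.isSheafFor_arrows_iff _ _).1 hsh
    (fun | true => s | false => t) fun i k Z a b hab => by
      cases i <;> cases k
      · obtain rfl : a = b := (cancel_mono jB).1 hab
        rfl
      · obtain ⟨c, hca, hcb⟩ := hm Z b a hab.symm
        subst hca hcb
        change F.obj.map (c ≫ mB).op t = F.obj.map (c ≫ mA).op s
        rw [op_comp, op_comp, Functor.map_comp, Functor.map_comp, ConcreteCategory.comp_apply,
          ConcreteCategory.comp_apply, h]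
      · obtain ⟨c, hca, hcb⟩ := hm Z a b hab
        subst hca hcb
        change F.obj.map (c ≫ mA).op s = F.obj.map (c ≫ mB).op t
        rw [op_comp, op_comp, Functor.map_comp, Functor.map_comp, ConcreteCategory.comp_apply,
          ConcreteCategory.comp_apply, h]
      · obtain rfl : a = b := (cancel_mono jA).1 hab
        rfl
  exact ⟨x, hx true, hx false⟩

theorem ext_pair (hJ : Sieve.ofArrows (pairObj A B) (pairMap jA jB) ∈ J P) (x y : F.obj.obj (op P))
    (hA : F.obj.map jA.op x = F.obj.map jA.op y) (hB : F.obj.map jB.op x = F.obj.map jB.op y) : x = y := by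
  refine F.2.isSeparated P _ hJ x y ?_
  rintro Z f ⟨_, g, _, ⟨i⟩, rfl⟩
  cases i
  · rw [op_comp, Functor.map_comp, ConcreteCategory.comp_apply, ConcreteCategory.comp_apply]
    exact congrArg _ hB
  · rw [op_comp, Functor.map_comp, ConcreteCategory.comp_apply, ConcreteCategory.comp_apply]
    exact congrArg _ hA

end Glue

variable {X : Scheme.{u}} [ProEtS.EpsCont X] [RepresentablyFlat (ProEtS.eps X)]

local notation "KT" => Scheme.ProEt.topology X

variable (I : CochainComplex (EtCoh.Ab X) ℤ) [∀ n, Injective (I.X n)] [I.IsStrictlyGE 0]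
  (J : CochainComplex (ProEtS.AbP X) ℤ) [∀ n, Injective (J.X n)] [J.IsStrictlyGE 0]
  (ρ : ((pullC X).mapHomologicalComplex (ComplexShape.up ℤ)).obj I ⟶ J) [QuasiIso ρ]
variable {K : Type u} [Category.{u} K] [IsCofiltered K] (S : Sys X K)

/-- restriction of sections of `I` -/
noncomputable abbrev rI {O' O : S.T.left.Opens} (h : O' ≤ O) {a a' : K} (g : a ⟶ a') (n : ℤ) :
    (I.X n).obj.obj (op (S.pc O a')) ⟶ (I.X n).obj.obj (op (S.pc O' a)) :=
  (I.X n).obj.map (S.pm h g).op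

/-- restriction of sections of `J` -/
noncomputable abbrev rJ {O' O : S.T.left.Opens} (h : O' ≤ O) (n : ℤ) :
    (J.X n).obj.obj (op (S.wp O)) ⟶ (J.X n).obj.obj (op (S.wp O')) :=
  (J.X n).obj.map (S.wm h).op

/-- differential of sections of `I` -/
noncomputable abbrev dI (O : S.T.left.Opens) (a : K) (i j : ℤ) :
    (I.X i).obj.obj (op (S.pc O a)) ⟶ (I.X j).obj.obj (op (S.pc O a)) :=
  (I.d i j).hom.app (op (S.pc O a))

/-- differential of sections of `J` -/
noncomputable abbrev dJ (O : S.T.left.Opens) (i j : ℤ) :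
    (J.X i).obj.obj (op (S.wp O)) ⟶ (J.X j).obj.obj (op (S.wp O)) :=
  (J.d i j).hom.app (op (S.wp O))

section
omit [RepresentablyFlat (ProEtS.eps X)] [ProEtS.EpsCont X] [∀ n, Injective (I.X n)] [I.IsStrictlyGE 0]
  [∀ n, Injective (J.X n)] [J.IsStrictlyGE 0]

theorem rI_comp {O'' O' O : S.T.left.Opens} (h : O'' ≤ O') (h' : O' ≤ O) {a a' a'' : K} (g : a ⟶ a')
    (g' : a' ⟶ a'') (n : ℤ) (x : (I.X n).obj.obj (op (S.pc O a''))) :
    rI I S h g n (rI I S h' g' n x) = rI I S (h.trans h') (g ≫ g') n x := by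
  rw [← ConcreteCategory.comp_apply, ← Functor.map_comp, ← op_comp, S.pm_comp]

theorem rJ_comp {O'' O' O : S.T.left.Opens} (h : O'' ≤ O') (h' : O' ≤ O) (n : ℤ)
    (x : (J.X n).obj.obj (op (S.wp O))) : rJ J S h n (rJ J S h' n x) = rJ J S (h.trans h') n x := by
  rw [← ConcreteCategory.comp_apply, ← Functor.map_comp, ← op_comp, S.wm_comp]

theorem rJ_rfl (O : S.T.left.Opens) (n : ℤ) (t : (J.X n).obj.obj (op (S.wp O))) : rJ J S (le_refl O) n t = t := by
  rw [rJ, show S.wm (le_refl O) = 𝟙 _ from S.wp_hom_ext (by rw [S.wm_ι, Category.id_comp]), op_id,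
    CategoryTheory.Functor.map_id]
  rfl

theorem rI_d {O' O : S.T.left.Opens} (h : O' ≤ O) {a a' : K} (g : a ⟶ a') (i j : ℤ)
    (x : (I.X i).obj.obj (op (S.pc O a'))) : rI I S h g j (dI I S O a' i j x) = dI I S O' a i j (rI I S h g i x) :=
  (NatTrans.naturality_apply (I.d i j).hom (S.pm h g).op x).symm

theorem rJ_d {O' O : S.T.left.Opens} (h : O' ≤ O) (i j : ℤ) (x : (J.X i).obj.obj (op (S.wp O))) :
    rJ J S h j (dJ J S O i j x) = dJ J S O' i j (rJ J S h i x) :=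
  (NatTrans.naturality_apply (J.d i j).hom (S.wm h).op x).symm

theorem dI_dI (O : S.T.left.Opens) (a : K) (i j k : ℤ) (x : (I.X i).obj.obj (op (S.pc O a))) :
    dI I S O a j k (dI I S O a i j x) = 0 := by
  rw [dI, dI, map_f_apply (I.d i j) (I.d j k) 0 (I.d_comp_d i j k)]; rfl

theorem dJ_dJ (O : S.T.left.Opens) (i j k : ℤ) (x : (J.X i).obj.obj (op (S.wp O))) :
    dJ J S O j k (dJ J S O i j x) = 0 := by
  rw [dJ, dJ, map_f_apply (J.d i j) (J.d j k) 0 (J.d_comp_d i j k)]; rfl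

end

theorem ev_rI {O' O : S.T.left.Opens} (h : O' ≤ O) {a a' : K} (g : a ⟶ a') (n : ℤ)
    (x : (I.X n).obj.obj (op (S.pc O a'))) :
    ev I J ρ S O' a n (rI I S h g n x) = rJ J S h n (ev I J ρ S O a' n x) := ev_pm I J ρ S h g n x

theorem ev_dI (O : S.T.left.Opens) (a : K) (i j : ℤ) (x : (I.X i).obj.obj (op (S.pc O a))) :
    ev I J ρ S O a j (dI I S O a i j x) = dJ J S O i j (ev I J ρ S O a i x) := ev_d I J ρ S O a i j x

instance mono_pm {O' O : S.T.left.Opens} (h : O' ≤ O) (a : K) : Mono (S.pm h (𝟙 a)) :=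
  ⟨fun u v e => S.pc_hom_ext (by
    have := congrArg (· ≫ S.pcι O a) e
    simpa only [Category.assoc, S.pm_ι, CategoryTheory.Functor.map_id, Category.comp_id] using this)⟩

instance mono_wm {O' O : S.T.left.Opens} (h : O' ≤ O) : Mono (S.wm h) :=
  ⟨fun u v e => S.wp_hom_ext (by
    have := congrArg (· ≫ opHom S.W (S.w ⁻¹ᵁ O)) e
    simpa only [Category.assoc, S.wm_ι] using this)⟩

omit [RepresentablyFlat (ProEtS.eps X)] [ProEtS.EpsCont X] [I.IsStrictlyGE 0] in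
theorem exists_extend_I {O' O : S.T.left.Opens} (h : O' ≤ O) (a : K) (n : ℤ)
    (x : (I.X n).obj.obj (op (S.pc O' a))) : ∃ y, rI I S h (𝟙 a) n y = x :=
  haveI : Injective (I.X n).obj :=
    Injective.injective_of_adjoint (sheafificationAdjunction X.smallEtaleTopology AddCommGrpCat.{u + 1}) _
  EtLC12.EtZarCompare.surjective_map_of_mono (I.X n).obj (S.pm h (𝟙 a)) x

omit [RepresentablyFlat (ProEtS.eps X)] [ProEtS.EpsCont X] [J.IsStrictlyGE 0] in
theorem exists_extend_J {O' O : S.T.left.Opens} (h : O' ≤ O) (n : ℤ)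
    (x : (J.X n).obj.obj (op (S.wp O'))) : ∃ y, rJ J S h n y = x :=
  haveI : Injective (J.X n).obj :=
    Injective.injective_of_adjoint (sheafificationAdjunction KT AddCommGrpCat.{u + 1}) _
  EtLC12.EtZarCompare.surjective_map_of_mono (J.X n).obj (S.wm h) x

variable (A B : S.T.left.Opens)

theorem mem_pc (a : K) : Sieve.ofArrows (pairObj (S.pc A a) (S.pc B a))
    (pairMap (S.pm (le_sup_left : A ≤ A ⊔ B) (𝟙 a)) (S.pm (le_sup_right : B ≤ A ⊔ B) (𝟙 a))) ∈
      X.smallEtaleTopology (S.pc (A ⊔ B) a) := by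
  rw [EtFound.mem_topology_iff]
  rintro ⟨x, hx⟩
  have hι : ∀ {O : S.T.left.Opens} (h : O ≤ A ⊔ B) (z : ((S.t a).left ⁻¹ᵁ O).toScheme),
      ((S.pm h (𝟙 a)).left.base z).1 = z.1 := fun {O} h z => by
    have e := congrArg (fun q : S.pc O a ⟶ S.D.obj a => q.left.base z) (S.pm_ι h (𝟙 a))
    rw [CategoryTheory.Functor.map_id, Category.comp_id] at e
    exact e
  rcases (show (S.t a).left.base x ∈ A ∨ (S.t a).left.base x ∈ B from hx) with h | h
  · exact ⟨_, S.pm le_sup_left (𝟙 a), ⟨x, h⟩, Sieve.ofArrows_mk _ _ true, Subtype.ext (hι _ _)⟩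
  · exact ⟨_, S.pm le_sup_right (𝟙 a), ⟨x, h⟩, Sieve.ofArrows_mk _ _ false, Subtype.ext (hι _ _)⟩

theorem mem_wp : Sieve.ofArrows (pairObj (S.wp A) (S.wp B))
    (pairMap (S.wm (le_sup_left : A ≤ A ⊔ B)) (S.wm (le_sup_right : B ≤ A ⊔ B))) ∈ KT (S.wp (A ⊔ B)) := by
  have hop : ∀ i, Etale ((pairMap (S.wm (le_sup_left : A ≤ A ⊔ B)) (S.wm (le_sup_right : B ≤ A ⊔ B))) i).left := by
    intro i
    cases i
    · exact inferInstanceAs (Etale (S.W.left.homOfLE (Scheme.Hom.preimage_mono S.w (le_sup_right : B ≤ A ⊔ B))))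
    · exact inferInstanceAs (Etale (S.W.left.homOfLE (Scheme.Hom.preimage_mono S.w (le_sup_left : A ≤ A ⊔ B))))
  refine mem_topology_of_etale _ _ hop (fun z => ?_) fun i => Sieve.ofArrows_mk _ _ i
  have hι : ∀ {O : S.T.left.Opens} (h : O ≤ A ⊔ B) (v : (S.w ⁻¹ᵁ O).toScheme), ((S.wm h).left.base v).1 = v.1 :=
    fun {O} h v => congrArg (fun q : S.wp O ⟶ S.W => q.left.base v) (S.wm_ι h)
  rcases (show S.w.base z.1 ∈ A ∨ S.w.base z.1 ∈ B from z.2) with h | h
  · exact ⟨true, ⟨z.1, h⟩, Subtype.ext (hι _ _)⟩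
  · exact ⟨false, ⟨z.1, h⟩, Subtype.ext (hι _ _)⟩

theorem glue_I (a : K) (n : ℤ) (s : (I.X n).obj.obj (op (S.pc A a))) (t : (I.X n).obj.obj (op (S.pc B a)))
    (h : rI I S (inf_le_left : A ⊓ B ≤ A) (𝟙 a) n s = rI I S (inf_le_right : A ⊓ B ≤ B) (𝟙 a) n t) :
    ∃ x, rI I S (le_sup_left : A ≤ A ⊔ B) (𝟙 a) n x = s ∧ rI I S (le_sup_right : B ≤ A ⊔ B) (𝟙 a) n x = t := by
  refine glue_pair (I.X n) _ _ _ _ (mem_pc S A B a) (fun Z p q hpq => ?_) s t h
  have hpq' : p ≫ S.pcι A a = q ≫ S.pcι B a := by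
    have := congrArg (· ≫ S.pcι (A ⊔ B) a) hpq
    simpa only [Category.assoc, S.pm_ι, CategoryTheory.Functor.map_id, Category.comp_id] using this
  have hr : Set.range (p ≫ S.pcι A a).left.base ⊆ Set.range ((S.t a).left ⁻¹ᵁ (A ⊓ B)).ι.base := by
    rintro _ ⟨z, rfl⟩
    rw [Scheme.Opens.range_ι]
    refine ⟨(p.left.base z).2, ?_⟩
    rw [hpq']
    exact (q.left.base z).2
  let l : Z.left ⟶ ((S.t a).left ⁻¹ᵁ (A ⊓ B)).toScheme :=
    IsOpenImmersion.lift ((S.t a).left ⁻¹ᵁ (A ⊓ B)).ι (p ≫ S.pcι A a).left hr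
  have hl : l ≫ ((S.t a).left ⁻¹ᵁ (A ⊓ B)).ι = (p ≫ S.pcι A a).left := IsOpenImmersion.lift_fac _ _ hr
  let c : Z ⟶ S.pc (A ⊓ B) a := MorphismProperty.Over.homMk l (by
    change _ ≫ ((S.t a).left ⁻¹ᵁ (A ⊓ B)).ι ≫ _ = _
    refine (Category.assoc _ _ _).symm.trans ((congrArg (· ≫ (S.D.obj a).hom) hl).trans ?_)
    exact MorphismProperty.Over.w (p ≫ S.pcι A a))
  have hc : c ≫ S.pcι (A ⊓ B) a = p ≫ S.pcι A a := MorphismProperty.Over.Hom.ext hl
  refine ⟨c, S.pc_hom_ext ?_, S.pc_hom_ext ?_⟩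
  · rw [Category.assoc, S.pm_ι, CategoryTheory.Functor.map_id, Category.comp_id, hc]
  · rw [Category.assoc, S.pm_ι, CategoryTheory.Functor.map_id, Category.comp_id, hc, hpq']

theorem ext_I (a : K) (n : ℤ) (x y : (I.X n).obj.obj (op (S.pc (A ⊔ B) a)))
    (hA : rI I S (le_sup_left : A ≤ A ⊔ B) (𝟙 a) n x = rI I S le_sup_left (𝟙 a) n y)
    (hB : rI I S (le_sup_right : B ≤ A ⊔ B) (𝟙 a) n x = rI I S le_sup_right (𝟙 a) n y) : x = y :=
  ext_pair (I.X n) _ _ (mem_pc S A B a) x y hA hB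

theorem glue_J (n : ℤ) (s : (J.X n).obj.obj (op (S.wp A))) (t : (J.X n).obj.obj (op (S.wp B)))
    (h : rJ J S (inf_le_left : A ⊓ B ≤ A) n s = rJ J S (inf_le_right : A ⊓ B ≤ B) n t) :
    ∃ x, rJ J S (le_sup_left : A ≤ A ⊔ B) n x = s ∧ rJ J S (le_sup_right : B ≤ A ⊔ B) n x = t := by
  refine glue_pair (J.X n) _ _ _ _ (mem_wp S A B) (fun Z p q hpq => ?_) s t h
  have hpq' : p ≫ opHom S.W (S.w ⁻¹ᵁ A) = q ≫ opHom S.W (S.w ⁻¹ᵁ B) := by
    have := congrArg (· ≫ opHom S.W (S.w ⁻¹ᵁ (A ⊔ B))) hpq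
    simpa only [Category.assoc, S.wm_ι] using this
  have hr : Set.range (p ≫ opHom S.W (S.w ⁻¹ᵁ A)).left.base ⊆ Set.range (S.w ⁻¹ᵁ (A ⊓ B)).ι.base := by
    rintro _ ⟨z, rfl⟩
    rw [Scheme.Opens.range_ι]
    refine ⟨(p.left.base z).2, ?_⟩
    rw [hpq']
    exact (q.left.base z).2
  let l : Z.left ⟶ (S.w ⁻¹ᵁ (A ⊓ B)).toScheme :=
    IsOpenImmersion.lift (S.w ⁻¹ᵁ (A ⊓ B)).ι (p ≫ opHom S.W (S.w ⁻¹ᵁ A)).left hr
  have hl : l ≫ (S.w ⁻¹ᵁ (A ⊓ B)).ι = (p ≫ opHom S.W (S.w ⁻¹ᵁ A)).left := IsOpenImmersion.lift_fac _ _ hr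
  let c : Z ⟶ S.wp (A ⊓ B) := MorphismProperty.Over.homMk l (by
    change _ ≫ (S.w ⁻¹ᵁ (A ⊓ B)).ι ≫ _ = _
    refine (Category.assoc _ _ _).symm.trans ((congrArg (· ≫ S.W.hom) hl).trans ?_)
    exact MorphismProperty.Over.w (p ≫ opHom S.W (S.w ⁻¹ᵁ A)))
  have hc : c ≫ opHom S.W (S.w ⁻¹ᵁ (A ⊓ B)) = p ≫ opHom S.W (S.w ⁻¹ᵁ A) := MorphismProperty.Over.Hom.ext hl
  refine ⟨c, S.wp_hom_ext ?_, S.wp_hom_ext ?_⟩
  · rw [Category.assoc, S.wm_ι, hc]
  · rw [Category.assoc, S.wm_ι, hc, hpq']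

theorem ext_J (n : ℤ) (x y : (J.X n).obj.obj (op (S.wp (A ⊔ B))))
    (hA : rJ J S (le_sup_left : A ≤ A ⊔ B) n x = rJ J S le_sup_left n y)
    (hB : rJ J S (le_sup_right : B ≤ A ⊔ B) n x = rJ J S le_sup_right n y) : x = y :=
  ext_pair (J.X n) _ _ (mem_wp S A B) x y hA hB

/-- the Mayer-Vietoris step -/
theorem good_sup (hA : Good I J ρ S A) (hB : Good I J ρ S B) (hM : Good I J ρ S (A ⊓ B)) :
    Good I J ρ S (A ⊔ B) := by
  have lA : A ≤ A ⊔ B := le_sup_left
  have lB : B ≤ A ⊔ B := le_sup_right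
  have mA : A ⊓ B ≤ A := inf_le_left
  have mB : A ⊓ B ≤ B := inf_le_right
  have rJeq : ∀ (n : ℤ) (x : (J.X n).obj.obj (op (S.wp (A ⊔ B)))),
      rJ J S mA n (rJ J S lA n x) = rJ J S mB n (rJ J S lB n x) := fun n x => by rw [rJ_comp, rJ_comp]
  refine ⟨fun i j k hij hjk z hz => ?_, fun i j k hij hjk a x hx y hy => ?_⟩
  · -- surjectivity
    change dJ J S (A ⊔ B) j k z = 0 at hz
    obtain ⟨a₁, xA, hxA, jA, hjA⟩ := hA.1 i j k hij hjk (rJ J S lA j z)
      (by change dJ J S A j k _ = 0; rw [← rJ_d, hz, map_zero])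
    obtain ⟨a₂, xB, hxB, jB, hjB⟩ := hB.1 i j k hij hjk (rJ J S lB j z)
      (by change dJ J S B j k _ = 0; rw [← rJ_d, hz, map_zero])
    change dI I S A a₁ j k xA = 0 at hxA
    change dI I S B a₂ j k xB = 0 at hxB
    obtain ⟨e, g₁, g₂, -⟩ := IsCofilteredOrEmpty.cone_objs a₁ a₂
    let c := rI I S mA g₁ j xA - rI I S mB g₂ j xB
    have hc : dI I S (A ⊓ B) e j k c = 0 := by
      rw [map_sub, ← rI_d, ← rI_d, hxA, hxB, map_zero, map_zero, sub_zero]
    have hjA' : ev I J ρ S A a₁ j xA = rJ J S lA j z - dJ J S A i j jA := eq_sub_iff_add_eq.2 hjA.symm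
    have hjB' : ev I J ρ S B a₂ j xB = rJ J S lB j z - dJ J S B i j jB := eq_sub_iff_add_eq.2 hjB.symm
    obtain ⟨f, g, v, hv⟩ := hM.2 i j k hij hjk e c hc (rJ J S mB i jB - rJ J S mA i jA) (by
      change ev I J ρ S (A ⊓ B) e j c = dJ J S (A ⊓ B) i j _
      rw [map_sub, ev_rI, ev_rI, hjA', hjB', map_sub, map_sub, map_sub, rJeq, rJ_d, rJ_d]
      abel)
    change rI I S le_rfl g j c = dI I S (A ⊓ B) f i j v at hv
    obtain ⟨v', rfl⟩ := exists_extend_I I S mA f i v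
    let xA' := rI I S le_rfl (g ≫ g₁) j xA - dI I S A f i j v'
    let jA' := jA + ev I J ρ S A f i v'
    let xB' := rI I S le_rfl (g ≫ g₂) j xB
    have hagree : rI I S mA (𝟙 f) j xA' = rI I S mB (𝟙 f) j xB' := by
      rw [map_sub, rI_d, ← hv, map_sub, rI_comp, rI_comp, rI_comp, rI_comp]
      simp only [Category.id_comp]
      abel
    have hevA : rJ J S lA j z = ev I J ρ S A f j xA' + dJ J S A i j jA' := by
      rw [map_sub, ev_rI, ev_dI, map_add, hjA', rJ_rfl]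
      abel
    have hevB : rJ J S lB j z = ev I J ρ S B f j xB' + dJ J S B i j jB := by
      rw [ev_rI, hjB', rJ_rfl]
      abel
    let kk := rJ J S mA i jA' - rJ J S mB i jB
    have hk : dJ J S (A ⊓ B) i j kk = 0 := by
      have e := congrArg (fun t => ev I J ρ S (A ⊓ B) f j t) hagree
      simp only [ev_rI] at e
      have e1 := congrArg (fun t => rJ J S mA j t) hevA
      have e2 := congrArg (fun t => rJ J S mB j t) hevB
      simp only [map_add] at e1 e2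
      rw [rJeq] at e1
      rw [map_sub, ← rJ_d, ← rJ_d, sub_eq_zero]
      exact add_left_cancel ((e1.symm.trans e2).trans (by rw [e]))
    obtain ⟨h, u, hu, i₀, hi₀⟩ := hM.1 (i - 1) i j (by omega) hij kk hk
    change dI I S (A ⊓ B) h i j u = 0 at hu
    change kk = ev I J ρ S (A ⊓ B) h i u + dJ J S (A ⊓ B) (i - 1) i i₀ at hi₀
    obtain ⟨m, p, q, -⟩ := IsCofilteredOrEmpty.cone_objs f h
    obtain ⟨u', hu'⟩ := exists_extend_I I S mA m i (rI I S le_rfl q i u)
    obtain ⟨i', hi'⟩ := exists_extend_J J S mA (i - 1) i₀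
    let xA'' := rI I S le_rfl p j xA' + dI I S A m i j u'
    let jA'' := jA' - ev I J ρ S A m i u' - dJ J S A (i - 1) i i'
    let xB'' := rI I S le_rfl p j xB'
    obtain ⟨x, hxA', hxB'⟩ := glue_I I S A B m j xA'' xB'' (by
      rw [map_add, rI_d, hu', ← rI_d, hu, map_zero, add_zero]
      have := congrArg (rI I S le_rfl p j) hagree
      rw [rI_comp, rI_comp] at this
      rw [rI_comp, rI_comp]
      simpa only [Category.id_comp, Category.comp_id] using this)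
    obtain ⟨y, hyA, hyB⟩ := glue_J J S A B i jA'' jB (by
      rw [map_sub, map_sub, ← ev_rI I J ρ S mA (𝟙 m), hu', ev_rI, rJ_rfl, rJ_d, hi']
      refine eq_of_sub_eq_zero ?_
      have : kk - ev I J ρ S (A ⊓ B) h i u - dJ J S (A ⊓ B) (i - 1) i i₀ = 0 := by rw [hi₀]; abel
      refine Eq.trans ?_ this
      change _ = (rJ J S mA i jA' - rJ J S mB i jB) - _ - _
      abel)
    refine ⟨m, x, ext_I I S A B m k _ _ ?_ ?_, y, ext_J J S A B j _ _ ?_ ?_⟩
    · change rI I S lA (𝟙 m) k (dI I S (A ⊔ B) m j k x) = _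
      rw [rI_d, hxA', map_add, ← rI_d, map_sub, ← rI_d, hxA, map_zero, dI_dI, sub_zero, map_zero, dI_dI,
        add_zero, map_zero]
    · change rI I S lB (𝟙 m) k (dI I S (A ⊔ B) m j k x) = _
      rw [rI_d, hxB', ← rI_d, ← rI_d, hxB, map_zero, map_zero, map_zero]
    · change _ = rJ J S lA j (ev I J ρ S (A ⊔ B) m j x + dJ J S (A ⊔ B) i j y)
      rw [map_add, ← ev_rI I J ρ S lA (𝟙 m), hxA', rJ_d, hyA, map_add, ev_rI, rJ_rfl, ev_dI, hevA]
      simp only [jA'', map_sub, map_add, dJ_dJ]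
      abel
    · change _ = rJ J S lB j (ev I J ρ S (A ⊔ B) m j x + dJ J S (A ⊔ B) i j y)
      rw [map_add, ← ev_rI I J ρ S lB (𝟙 m), hxB', rJ_d, hyB, ev_rI, rJ_rfl, hevB]
  · -- injectivity
    change dI I S (A ⊔ B) a j k x = 0 at hx
    change ev I J ρ S (A ⊔ B) a j x = dJ J S (A ⊔ B) i j y at hy
    obtain ⟨a₁, g₁, yA, hyA⟩ := hA.2 i j k hij hjk a (rI I S lA (𝟙 a) j x)
      (by change dI I S A a j k _ = 0; rw [← rI_d, hx, map_zero]) (rJ J S lA i y)
      (by change _ = dJ J S A i j _; rw [ev_rI, hy, rJ_d])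
    obtain ⟨a₂, g₂, yB, hyB⟩ := hB.2 i j k hij hjk a (rI I S lB (𝟙 a) j x)
      (by change dI I S B a j k _ = 0; rw [← rI_d, hx, map_zero]) (rJ J S lB i y)
      (by change _ = dJ J S B i j _; rw [ev_rI, hy, rJ_d])
    change rI I S le_rfl g₁ j (rI I S lA (𝟙 a) j x) = dI I S A a₁ i j yA at hyA
    change rI I S le_rfl g₂ j (rI I S lB (𝟙 a) j x) = dI I S B a₂ i j yB at hyB
    obtain ⟨e, p₁, p₂, he⟩ := IsCofiltered.cospan g₁ g₂
    rw [rI_comp, Category.comp_id] at hyA hyB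
    have hdA : dJ J S A i j (ev I J ρ S A a₁ i yA - rJ J S lA i y) = 0 := by
      rw [map_sub, ← ev_dI, ← hyA, ev_rI, hy, rJ_d, sub_self]
    have hdB : dJ J S B i j (ev I J ρ S B a₂ i yB - rJ J S lB i y) = 0 := by
      rw [map_sub, ← ev_dI, ← hyB, ev_rI, hy, rJ_d, sub_self]
    obtain ⟨b₁, wA, hwA, jA, hjA⟩ := hA.1 (i - 1) i j (by omega) hij _ hdA
    obtain ⟨b₂, wB, hwB, jB, hjB⟩ := hB.1 (i - 1) i j (by omega) hij _ hdB
    change dI I S A b₁ i j wA = 0 at hwA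
    change dI I S B b₂ i j wB = 0 at hwB
    change _ = ev I J ρ S A b₁ i wA + dJ J S A (i - 1) i jA at hjA
    change _ = ev I J ρ S B b₂ i wB + dJ J S B (i - 1) i jB at hjB
    obtain ⟨f₁, q₁, r₁, -⟩ := IsCofilteredOrEmpty.cone_objs e b₁
    obtain ⟨f, q₂, r₂, -⟩ := IsCofilteredOrEmpty.cone_objs f₁ b₂
    let yA' := rI I S le_rfl (q₂ ≫ q₁ ≫ p₁) i yA - rI I S le_rfl (q₂ ≫ r₁) i wA
    let yB' := rI I S le_rfl (q₂ ≫ q₁ ≫ p₂) i yB - rI I S le_rfl r₂ i wB
    let c := rI I S mA (𝟙 f) i yA' - rI I S mB (𝟙 f) i yB'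
    have hdA' : dI I S A f i j yA' = rI I S lA (q₂ ≫ q₁ ≫ p₁ ≫ g₁) j x := by
      rw [map_sub, ← rI_d, ← rI_d, hwA, map_zero, sub_zero, ← hyA, rI_comp]
      simp only [Category.assoc]
    have hdB' : dI I S B f i j yB' = rI I S lB (q₂ ≫ q₁ ≫ p₁ ≫ g₁) j x := by
      rw [map_sub, ← rI_d, ← rI_d, hwB, map_zero, sub_zero, ← hyB, rI_comp, he]
      simp only [Category.assoc]
    have hevA : ev I J ρ S A f i yA' = rJ J S lA i y + dJ J S A (i - 1) i jA := by
      rw [map_sub, ev_rI, ev_rI, rJ_rfl, rJ_rfl]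
      exact sub_eq_iff_eq_add.2 ((sub_eq_iff_eq_add.1 hjA).trans (by abel))
    have hevB : ev I J ρ S B f i yB' = rJ J S lB i y + dJ J S B (i - 1) i jB := by
      rw [map_sub, ev_rI, ev_rI, rJ_rfl, rJ_rfl]
      exact sub_eq_iff_eq_add.2 ((sub_eq_iff_eq_add.1 hjB).trans (by abel))
    obtain ⟨m, g, v, hv⟩ := hM.2 (i - 1) i j (by omega) hij f c
      (by
        change dI I S (A ⊓ B) f i j c = 0
        rw [map_sub, ← rI_d, ← rI_d, hdA', hdB', rI_comp, rI_comp, sub_self])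
      (rJ J S mA (i - 1) jA - rJ J S mB (i - 1) jB) (by
        change _ = dJ J S (A ⊓ B) (i - 1) i _
        rw [map_sub, ev_rI, ev_rI, hevA, hevB, map_add, map_add, map_sub, rJeq, rJ_d, rJ_d]
        abel)
    change rI I S le_rfl g i c = dI I S (A ⊓ B) m (i - 1) i v at hv
    obtain ⟨v', hv'⟩ := exists_extend_I I S mA m (i - 1) v
    obtain ⟨w, hwA', hwB'⟩ := glue_I I S A B m i (rI I S le_rfl g i yA' - dI I S A m (i - 1) i v')
      (rI I S le_rfl g i yB') (by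
        rw [map_sub, rI_d, hv', ← hv]
        simp only [c, map_sub, rI_comp, Category.id_comp, Category.comp_id]
        abel)
    refine ⟨m, g ≫ q₂ ≫ q₁ ≫ p₁ ≫ g₁, w, ext_I I S A B m j _ _ ?_ ?_⟩
    · change _ = rI I S lA (𝟙 m) j (dI I S (A ⊔ B) m i j w)
      rw [rI_d, hwA', map_sub, dI_dI, sub_zero, ← rI_d, hdA', rI_comp, rI_comp]
      simp only [Category.id_comp]
    · change _ = rI I S lB (𝟙 m) j (dI I S (A ⊔ B) m i j w)
      rw [rI_d, hwB', ← rI_d, hdB', rI_comp, rI_comp]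
      simp only [Category.id_comp]

theorem good_of_basic {U : S.T.left.Opens} (hU : IsAffineOpen U) :
    ∀ (n : ℕ) (s : Finset Γ(S.T.left, U)), s.card ≤ n → Good I J ρ S (s.sup fun g => S.T.left.basicOpen g) := by
  classical
  intro n
  induction n with
  | zero =>
    intro s hs
    rw [Finset.card_eq_zero.1 (Nat.le_zero.1 hs)]
    exact good_of_isAffineOpen I J ρ (isAffineOpen_bot _)
  | succ n ih =>
    intro s hs
    by_cases h : s.card ≤ n
    · exact ih s h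
    obtain ⟨g, t, hgt, rfl⟩ : ∃ g t, g ∉ t ∧ s = insert g t := by
      obtain ⟨g, hg⟩ := Finset.card_pos.1 (by omega : 0 < s.card)
      exact ⟨g, s.erase g, Finset.notMem_erase g s, (Finset.insert_erase hg).symm⟩
    rw [Finset.card_insert_of_notMem hgt] at hs
    rw [Finset.sup_insert]
    refine good_sup I J ρ S _ _ (good_of_isAffineOpen I J ρ (hU.basicOpen g)) (ih t (by omega)) ?_
    have : S.T.left.basicOpen g ⊓ t.sup (fun g => S.T.left.basicOpen g) =
        (t.image (g * ·)).sup fun g => S.T.left.basicOpen g := by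
      rw [Finset.sup_image, Finset.sup_inf_distrib_left]
      exact Finset.sup_congr rfl fun x _ => (Scheme.basicOpen_mul _ g x).symm
    rw [this]
    exact ih _ (Finset.card_image_le.trans (by omega))

theorem exists_finset_basic {U O : S.T.left.Opens} (hU : IsAffineOpen U) (hO : IsCompact (O : Set S.T.left))
    (hle : O ≤ U) : ∃ s : Finset Γ(S.T.left, U), O = s.sup fun g => S.T.left.basicOpen g := by
  classical
  have hc : ∀ x : O, ∃ g : Γ(S.T.left, U), S.T.left.basicOpen g ≤ O ∧ (x : S.T.left) ∈ S.T.left.basicOpen g :=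
    fun x => hU.exists_basicOpen_le x (hle x.2)
  choose g hg hx using hc
  obtain ⟨t, ht⟩ := hO.elim_finite_subcover (fun x : O => (S.T.left.basicOpen (g x) : Set S.T.left))
    (fun x => (S.T.left.basicOpen (g x)).2) fun x hx' => Set.mem_iUnion.2 ⟨⟨x, hx'⟩, hx ⟨x, hx'⟩⟩
  refine ⟨t.image g, le_antisymm (fun x hx' => ?_) (Finset.sup_le fun y hy => ?_)⟩
  · obtain ⟨z, hz, hxz⟩ := Set.mem_iUnion₂.1 (ht hx')
    exact (Finset.le_sup (f := fun g => S.T.left.basicOpen g) (Finset.mem_image_of_mem g hz)) hxz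
  · obtain ⟨z, -, rfl⟩ := Finset.mem_image.1 hy
    exact hg z

/-- the comparison is good over the whole base -/
theorem good_top [CompactSpace S.T.left] [QuasiSeparatedSpace S.T.left] : Good I J ρ S ⊤ := by
  classical
  have hc : ∀ x : S.T.left, ∃ U : S.T.left.Opens, IsAffineOpen U ∧ x ∈ U := fun x =>
    have ⟨U, hU, hx, _⟩ := exists_isAffineOpen_mem_and_subset (show x ∈ (⊤ : S.T.left.Opens) from trivial)
    ⟨U, hU, hx⟩
  choose U hU hx using hc
  obtain ⟨t, ht⟩ := isCompact_univ.elim_finite_subcover (fun x : S.T.left => (U x : Set S.T.left))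
    (fun x => (U x).2) fun x _ => Set.mem_iUnion.2 ⟨x, hx x⟩
  have htop : (⊤ : S.T.left.Opens) = t.sup U := le_antisymm (fun x _ => by
    obtain ⟨z, hz, hxz⟩ := Set.mem_iUnion₂.1 (ht (Set.mem_univ x))
    exact Finset.le_sup (f := U) hz hxz) le_top
  rw [htop]
  clear htop ht
  induction t using Finset.induction with
  | empty => exact good_of_isAffineOpen I J ρ (isAffineOpen_bot _)
  | @insert a t _ ih =>
    rw [Finset.sup_insert]
    refine good_sup I J ρ S _ _ (good_of_isAffineOpen I J ρ (hU a)) ih ?_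
    have hcpt : IsCompact ((t.sup U : S.T.left.Opens) : Set S.T.left) := by
      rw [Finset.sup_eq_iSup, TopologicalSpace.Opens.coe_iSup]
      simp only [TopologicalSpace.Opens.coe_iSup]
      exact t.isCompact_biUnion fun y _ => (hU y).isCompact
    obtain ⟨s, hs⟩ := exists_finset_basic S (hU a)
      (QuasiSeparatedSpace.inter_isCompact (U a : Set S.T.left) (t.sup U : S.T.left.Opens) (U a).2 (hU a).isCompact
        (t.sup U : S.T.left.Opens).2 hcpt) (inf_le_left : U a ⊓ t.sup U ≤ U a)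
    rw [hs]
    exact good_of_basic I J ρ S (hU a) s.card s le_rfl

end Groth.Agent.ProDI71
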