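import Groth.Agent.ProDI71.Theta

/-!
# The comparison of complexes is a quasi-isomorphism
-/

universe u

open CategoryTheory CategoryTheory.Limits AlgebraicGeometry Opposite MorphismProperty

namespace Groth.Agent.ProDI71

open ProStage SitePullUnit ProEtLib

set_option backward.isDefEq.respectTransparency.types false
set_option maxHeartbeats 1000000

variable {X Y : Scheme.{u}}

section kill

variable [ProEtS.EpsCont Y] [RepresentablyFlat (ProEtS.eps Y)] (F : EtCoh.Ab Y) {U₀ : Y.Etale} [IsAffine U₀.left]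
  {P : Y.ProEt} {w : P ⟶ (ProEtS.eps Y).obj U₀}

theorem exists_stage_kill (hP : IsPro (ovS w)) (a : Stg w) (x : F.obj.obj (op ((toX U₀).obj a.right)))
    (hx : sGerm (ProEtS.eps Y) (Scheme.ProEt.topology Y) F (sMap a) x = 0) :
    ∃ (a' : Stg w) (g : a' ⟶ a), F.obj.map ((toX U₀).map g.right).op x = 0 := by
  let D := stageDiag (ovS w)
  have hA : ∀ j, IsAffine (D.obj j) := fun j => isAffine_toOv j.right
  have : ∀ {i j} (g : i ⟶ j), IsAffineHom (D.map g) := fun {i j} g =>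
    @isAffineHom_of_isAffine _ _ _ (hA i) (hA j)
  have : ∀ j, CompactSpace (D.obj j) := fun j => by have := hA j; infer_instance
  obtain ⟨a', g, hg⟩ := exists_map_eq_top D _ hP.isLimit.some (i := a) (agree F x 0)
    (eq_top_iff.2 fun z _ => sGerm_agree F (sMap a) x 0 (hx.trans (sGerm_zero F _).symm) z)
  exact ⟨a', g, (map_eq_of_agree F ((toX U₀).map g.right) x 0 fun z =>
    hg.ge (trivial : z ∈ (⊤ : (D.obj a').Opens))).trans (map_zero _)⟩

end kill

section top

variable {K : Type u} [Category.{u} K] [IsCofiltered K] (S : Sys X K)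

instance isIso_pcι_top (a : K) : IsIso (S.pcι ⊤ a) := by
  have : IsIso ((S.t a).left ⁻¹ᵁ (⊤ : S.T.left.Opens)).ι :=
    inferInstanceAs (IsIso (Scheme.topIso (S.D.obj a).left).hom)
  let e : S.pc ⊤ a ≅ S.D.obj a := MorphismProperty.Over.isoMk (@asIso _ _ _ _ ((S.t a).left ⁻¹ᵁ (⊤ : S.T.left.Opens)).ι this) rfl
  exact inferInstanceAs (IsIso e.hom)

instance isIso_opHom_top : IsIso (opHom S.W (S.w ⁻¹ᵁ (⊤ : S.T.left.Opens))) := by
  have : IsIso (S.w ⁻¹ᵁ (⊤ : S.T.left.Opens)).ι :=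
    inferInstanceAs (IsIso (Scheme.topIso S.W.left).hom)
  let e : S.wp ⊤ ≅ S.W := MorphismProperty.Over.isoMk (@asIso _ _ _ _ (S.w ⁻¹ᵁ (⊤ : S.T.left.Opens)).ι this) rfl
  exact inferInstanceAs (IsIso e.hom)

variable [ProEtS.EpsCont X] [RepresentablyFlat (ProEtS.eps X)]
  (I : CochainComplex (EtCoh.Ab X) ℤ) [∀ n, Injective (I.X n)] [I.IsStrictlyGE 0]
  (J : CochainComplex (ProEtS.AbP X) ℤ) [∀ n, Injective (J.X n)] [J.IsStrictlyGE 0]
  (ρ : ((pullC X).mapHomologicalComplex (ComplexShape.up ℤ)).obj I ⟶ J) [QuasiIso ρ]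

/-- the comparison at a member -/
noncomputable def evTop (a : K) (n : ℤ) (x : (I.X n).obj.obj (op (S.D.obj a))) : (J.X n).obj.obj (op S.W) :=
  (ρ.f n).hom.app (op S.W) (((pullC X).obj (I.X n)).obj.map (S.b a).op
    ((conUnit (ProEtS.eps X) (Scheme.ProEt.topology X) (I.X n)).app (op (S.D.obj a)) x))

theorem ev_top (a : K) (n : ℤ) (x : (I.X n).obj.obj (op (S.D.obj a))) :
    ev I J ρ S ⊤ a n ((I.X n).obj.map (S.pcι ⊤ a).op x) =
      (J.X n).obj.map (opHom S.W (S.w ⁻¹ᵁ (⊤ : S.T.left.Opens))).op (evTop S I J ρ a n x) := by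
  rw [ev_apply]
  refine Eq.trans ?_ (NatTrans.naturality_apply (ρ.f n).hom _ _)
  refine congrArg _ ((sGerm_map _ _ _ _ _ x).trans ?_)
  rw [S.pb_ι]
  exact (map_sGerm _ _ _ _ _ x).symm

end top

variable (f : X ⟶ Y) [QuasiCompact f] [QuasiSeparated f] [ProEtS.EpsCont X] [ProEtS.EpsCont Y] [ProEtS.PCont f]
  [RepresentablyFlat (ProEtS.eps X)] [RepresentablyFlat (ProEtS.eps Y)]
  (I : CochainComplex (EtCoh.Ab X) ℤ) [∀ n, Injective (I.X n)] [I.IsStrictlyGE 0]
  (J : CochainComplex (ProEtS.AbP X) ℤ) [∀ n, Injective (J.X n)] [J.IsStrictlyGE 0]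
  (ρ : ((pullC X).mapHomologicalComplex (ComplexShape.up ℤ)).obj I ⟶ J) [QuasiIso ρ]

theorem quasiIso_eta : QuasiIso (eta f I J ρ) := by
  refine ⟨fun j => (quasiIsoAt_iff' _ (j - 1) j (j + 1) (by simp) (by simp)).2 ?_⟩
  refine quasiIso_of_local _ (fun U z hz => ?_) (fun U s hs y hy => ?_)
  · refine ⟨Sieve.generate (fun P g => ∃ (U₀ : Y.Etale) (_ : IsAffine U₀.left) (w : P ⟶ (ProEtS.eps Y).obj U₀),
      IsPro (ovS w)), mem_of_pro_over _ fun U₀ hU₀ P w g hP =>
        Sieve.le_generate _ _ _ ⟨U₀, hU₀, w, hP⟩, ?_⟩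
    rintro V k ⟨P, c, g, ⟨U₀, _, w, hP⟩, rfl⟩
    let S := bcSys f w hP
    obtain ⟨_, _⟩ := qcqs_bcSys f w hP
    let ι := opHom S.W (S.w ⁻¹ᵁ (⊤ : S.T.left.Opens))
    let z' : (J.X j).obj.obj (op S.W) := (J.X j).obj.map ((ProEtS.bcP f).map g).op z
    have hz' : (J.d j (j + 1)).hom.app (op S.W) z' = 0 :=
      (NatTrans.naturality_apply (J.d j (j + 1)).hom ((ProEtS.bcP f).map g).op z).trans
        ((congrArg _ hz).trans (map_zero _))
    obtain ⟨a, x, hx, y, hy⟩ := (good_top I J ρ S).1 (j - 1) j (j + 1) (by omega) rfl ((J.X j).obj.map ι.op z')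
      (by rw [NatTrans.naturality_apply, hz', map_zero])
    obtain ⟨x, rfl⟩ := (ConcreteCategory.bijective_of_isIso ((I.X j).obj.map (S.pcι ⊤ a).op)).2 x
    obtain ⟨y, rfl⟩ := (ConcreteCategory.bijective_of_isIso ((J.X (j - 1)).obj.map ι.op)).2 y
    have hx' : (I.d j (j + 1)).hom.app (op (S.D.obj a)) x = 0 := by
      apply (ConcreteCategory.bijective_of_isIso ((I.X (j + 1)).obj.map (S.pcι ⊤ a).op)).1
      rw [map_zero, ← NatTrans.naturality_apply]
      exact hx
    have hz'' : z' = evTop S I J ρ a j x + (J.d (j - 1) j).hom.app (op S.W) y := by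
      apply (ConcreteCategory.bijective_of_isIso ((J.X j).obj.map ι.op)).1
      rw [map_add, ← ev_top, ← NatTrans.naturality_apply]
      exact hy
    refine ⟨((pullC Y).obj ((EtCoh.push f).obj (I.X j))).obj.map c.op
      (sGerm (ProEtS.eps Y) (Scheme.ProEt.topology Y) ((EtCoh.push f).obj (I.X j)) (sMap a) x), ?_,
      ((ProEtS.pushP f).obj (J.X (j - 1))).obj.map c.op y, ?_⟩
    · refine (NatTrans.naturality_apply ((pullC Y).map ((EtCoh.push f).map (I.d j (j + 1)))).hom c.op _).trans ?_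
      refine Eq.trans (congrArg _ ?_) (map_zero _)
      refine (map_sGerm_app ((EtCoh.push f).map (I.d j (j + 1))) (sMap a) x).trans ?_
      exact (congrArg (sGerm (ProEtS.eps Y) (Scheme.ProEt.topology Y) ((EtCoh.push f).obj (I.X (j + 1))) (sMap a))
        hx').trans (sGerm_zero ((EtCoh.push f).obj (I.X (j + 1))) _)
    · refine (Functor.map_comp_apply ((ProEtS.pushP f).obj (J.X j)).obj g.op c.op z).trans ?_
      refine ((congrArg (((ProEtS.pushP f).obj (J.X j)).obj.map c.op) hz'').trans (map_add _ _ _)).trans ?_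
      exact congrArg₂ (· + ·)
        ((congrArg _ (eta_sGerm f I J ρ j (sMap a) x).symm).trans
          (NatTrans.naturality_apply ((eta f I J ρ).f j).hom c.op _).symm)
        (NatTrans.naturality_apply ((ProEtS.pushP f).map (J.d (j - 1) j)).hom c.op y).symm
  · refine ⟨Sieve.generate (fun P g => ∃ (U₀ : Y.Etale) (_ : IsAffine U₀.left) (w : P ⟶ (ProEtS.eps Y).obj U₀),
      IsPro (ovS w)), mem_of_pro_over _ fun U₀ hU₀ P w g hP =>
        Sieve.le_generate _ _ _ ⟨U₀, hU₀, w, hP⟩, ?_⟩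
    rintro V k ⟨P, c, g, ⟨U₀, _, w, hP⟩, rfl⟩
    let S := bcSys f w hP
    obtain ⟨_, _⟩ := qcqs_bcSys f w hP
    let ι := opHom S.W (S.w ⁻¹ᵁ (⊤ : S.T.left.Opens))
    obtain ⟨a, x, hx⟩ := exists_germ ((EtCoh.push f).obj (I.X j)) hP
      (((pullC Y).obj ((EtCoh.push f).obj (I.X j))).obj.map g.op s)
    have hd : sGerm (ProEtS.eps Y) (Scheme.ProEt.topology Y) ((EtCoh.push f).obj (I.X (j + 1))) (sMap a)
        (((EtCoh.push f).map (I.d j (j + 1))).hom.app (op ((toX U₀).obj a.right)) x) = 0 := by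
      rw [← map_sGerm_app, hx, NatTrans.naturality_apply]
      exact (congrArg _ hs).trans (map_zero _)
    obtain ⟨a₁, g₁, hg₁⟩ := exists_stage_kill ((EtCoh.push f).obj (I.X (j + 1))) hP a _ hd
    let x₁ : (I.X j).obj.obj (op (S.D.obj a₁)) := (I.X j).obj.map (S.D.map g₁).op x
    have hx₁ : (I.d j (j + 1)).hom.app (op (S.D.obj a₁)) x₁ = 0 := by
      rw [NatTrans.naturality_apply]
      exact hg₁
    have hs₁ : sGerm (ProEtS.eps Y) (Scheme.ProEt.topology Y) ((EtCoh.push f).obj (I.X j)) (sMap a₁) x₁ =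
        ((pullC Y).obj ((EtCoh.push f).obj (I.X j))).obj.map g.op s := by
      rw [← hx]
      refine (sGerm_map _ _ ((EtCoh.push f).obj (I.X j)) ((toX U₀).map g₁.right) (sMap a₁) x).trans ?_
      rw [sMap_map g₁]
    let y' : (J.X (j - 1)).obj.obj (op S.W) := (J.X (j - 1)).obj.map ((ProEtS.bcP f).map g).op y
    have hev : evTop S I J ρ a₁ j x₁ = (J.d (j - 1) j).hom.app (op S.W) y' := by
      have e : ((eta f I J ρ).f j).hom.app (op P)
          (sGerm (ProEtS.eps Y) (Scheme.ProEt.topology Y) ((EtCoh.push f).obj (I.X j)) (sMap a₁) x₁) =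
          ((ProEtS.pushP f).map (J.d (j - 1) j)).hom.app (op P) (((ProEtS.pushP f).obj (J.X (j - 1))).obj.map g.op y) := by
        rw [hs₁]
        exact (NatTrans.naturality_apply ((eta f I J ρ).f j).hom g.op s).trans ((congrArg _ hy).trans
          (NatTrans.naturality_apply ((ProEtS.pushP f).map (J.d (j - 1) j)).hom g.op y).symm)
      exact (eta_sGerm f I J ρ j (sMap a₁) x₁).symm.trans e
    obtain ⟨a₂, g₂, v, hv⟩ := (good_top I J ρ S).2 (j - 1) j (j + 1) (by omega) rfl a₁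
      ((I.X j).obj.map (S.pcι ⊤ a₁).op x₁) (by rw [NatTrans.naturality_apply, hx₁, map_zero])
      ((J.X (j - 1)).obj.map ι.op y') (by rw [ev_top, hev, NatTrans.naturality_apply])
    obtain ⟨v, rfl⟩ := (ConcreteCategory.bijective_of_isIso ((I.X (j - 1)).obj.map (S.pcι ⊤ a₂).op)).2 v
    have hv' : (I.X j).obj.map (S.D.map g₂).op x₁ = (I.d (j - 1) j).hom.app (op (S.D.obj a₂)) v := by
      apply (ConcreteCategory.bijective_of_isIso ((I.X j).obj.map (S.pcι ⊤ a₂).op)).1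
      have e₁ : (I.X j).obj.map (S.pcι ⊤ a₂).op ((I.X j).obj.map (S.D.map g₂).op x₁) =
          (I.X j).obj.map (S.pm (le_refl _) g₂).op ((I.X j).obj.map (S.pcι ⊤ a₁).op x₁) :=
        ((Functor.map_comp_apply (I.X j).obj (S.D.map g₂).op (S.pcι ⊤ a₂).op x₁).symm.trans
          (congrArg (fun h => (I.X j).obj.map h x₁) (congrArg Quiver.Hom.op (S.pm_ι (le_refl _) g₂).symm))).trans
          (Functor.map_comp_apply (I.X j).obj (S.pcι ⊤ a₁).op (S.pm (le_refl _) g₂).op x₁)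
      exact (e₁.trans hv).trans (NatTrans.naturality_apply (I.d (j - 1) j).hom (S.pcι ⊤ a₂).op v)
    refine ⟨((pullC Y).obj ((EtCoh.push f).obj (I.X (j - 1)))).obj.map c.op
      (sGerm (ProEtS.eps Y) (Scheme.ProEt.topology Y) ((EtCoh.push f).obj (I.X (j - 1))) (sMap a₂) v), ?_⟩
    refine (Functor.map_comp_apply ((pullC Y).obj ((EtCoh.push f).obj (I.X j))).obj g.op c.op s).trans ?_
    refine Eq.trans (congrArg (((pullC Y).obj ((EtCoh.push f).obj (I.X j))).obj.map c.op) ?_)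
      (NatTrans.naturality_apply ((pullC Y).map ((EtCoh.push f).map (I.d (j - 1) j))).hom c.op _).symm
    refine hs₁.symm.trans (Eq.trans ?_ (map_sGerm_app ((EtCoh.push f).map (I.d (j - 1) j)) (sMap a₂) v).symm)
    refine Eq.trans ?_ (congrArg (sGerm (ProEtS.eps Y) (Scheme.ProEt.topology Y) ((EtCoh.push f).obj (I.X j))
      (sMap a₂)) hv')
    refine Eq.trans ?_ (sGerm_map _ _ ((EtCoh.push f).obj (I.X j)) ((toX U₀).map g₂.right) (sMap a₂) x₁).symm
    rw [sMap_map g₂]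

end Groth.Agent.ProDI71
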