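import Groth.Agent.ProEtLib.EpsColim
import Groth.Agent.ProEtLib.EpsVanish
import Groth.Agent.EtFound.Basic
import Groth.Agent.EtFound.PushOutside

/-!
# Cofiltered systems of etale schemes over a base, restricted to opens of the base
-/

universe u

open CategoryTheory CategoryTheory.Limits AlgebraicGeometry Opposite MorphismProperty

namespace Groth.Agent.ProDI71

open ProStage SitePullUnit ProEtLib

set_option backward.isDefEq.respectTransparency.types false

variable (X : Scheme.{u}) (K : Type u) [Category.{u} K] [IsCofiltered K]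

/-- a limit of etale schemes over an etale scheme `T` -/
structure Sys where
  D : K ⥤ X.Etale
  T : X.Etale
  t : ∀ a, D.obj a ⟶ T
  t_map : ∀ {a a'} (g : a ⟶ a'), D.map g ≫ t a' = t a
  W : X.ProEt
  b : ∀ a, W ⟶ (ProEtS.eps X).obj (D.obj a)
  b_map : ∀ {a a'} (g : a ⟶ a'), b a ≫ (ProEtS.eps X).map (D.map g) = b a'
  w : W.left ⟶ T.left
  hw : ∀ a, (b a).left ≫ (t a).left = w
  lim : IsLimit (Cone.mk W.left
    { app := fun a => (b a).left
      naturality := fun a a' g => (Category.id_comp _).trans (congrArg (fun f => f.left) (b_map g)).symm } :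
      Cone (D ⋙ Scheme.Etale.forget X ⋙ CategoryTheory.Over.forget X))
  affine : ∀ a (O : T.left.Opens), IsAffineOpen O → IsAffineOpen ((t a).left ⁻¹ᵁ O)
  affineW : ∀ O : T.left.Opens, IsAffineOpen O → IsAffineOpen (w ⁻¹ᵁ O)

variable {X K} (S : Sys X K)

namespace Sys

/-- the piece of a member over an open -/
noncomputable abbrev pc (O : S.T.left.Opens) (a : K) : X.Etale :=
  EtFound.restrictEtale (S.D.obj a) ((S.t a).left ⁻¹ᵁ O)

/-- the inclusion of a piece -/
noncomputable abbrev pcι (O : S.T.left.Opens) (a : K) : S.pc O a ⟶ S.D.obj a :=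
  EtFound.restrictEtaleHom (S.D.obj a) ((S.t a).left ⁻¹ᵁ O)

theorem pc_hom_ext {O : S.T.left.Opens} {a : K} {V : X.Etale} {f g : V ⟶ S.pc O a}
    (h : f ≫ S.pcι O a = g ≫ S.pcι O a) : f = g :=
  MorphismProperty.Over.Hom.ext ((cancel_mono ((S.t a).left ⁻¹ᵁ O).ι).1 (congrArg (fun q => q.left) h))

theorem pc_le {O : S.T.left.Opens} {a a' : K} (g : a ⟶ a') :
    (S.t a).left ⁻¹ᵁ O ≤ (S.D.map g).left ⁻¹ᵁ ((S.t a').left ⁻¹ᵁ O) := fun x hx => by
  show (S.D.map g ≫ S.t a').left.base x ∈ O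
  rw [S.t_map g]
  exact hx

/-- transition maps and inclusions of pieces -/
noncomputable def pm {O' O : S.T.left.Opens} (h : O' ≤ O) {a a' : K} (g : a ⟶ a') : S.pc O' a ⟶ S.pc O a' :=
  MorphismProperty.Over.homMk (Scheme.Hom.resLE (S.D.map g).left ((S.t a').left ⁻¹ᵁ O) ((S.t a).left ⁻¹ᵁ O')
    ((Scheme.Hom.preimage_mono _ h).trans (S.pc_le g))) (by
    change _ ≫ ((S.t a').left ⁻¹ᵁ O).ι ≫ _ = ((S.t a).left ⁻¹ᵁ O').ι ≫ _
    rw [← Category.assoc, Scheme.Hom.resLE_comp_ι, Category.assoc, MorphismProperty.Over.w])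

theorem pm_ι {O' O : S.T.left.Opens} (h : O' ≤ O) {a a' : K} (g : a ⟶ a') :
    S.pm h g ≫ S.pcι O a' = S.pcι O' a ≫ S.D.map g :=
  MorphismProperty.Over.Hom.ext (Scheme.Hom.resLE_comp_ι _ _)

theorem pm_comp {O'' O' O : S.T.left.Opens} (h : O'' ≤ O') (h' : O' ≤ O) {a a' a'' : K} (g : a ⟶ a')
    (g' : a' ⟶ a'') : S.pm h g ≫ S.pm h' g' = S.pm (h.trans h') (g ≫ g') :=
  S.pc_hom_ext (by rw [Category.assoc, pm_ι, ← Category.assoc, pm_ι, pm_ι, Functor.map_comp, Category.assoc])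

theorem pm_id (O : S.T.left.Opens) (a : K) : S.pm (le_refl O) (𝟙 a) = 𝟙 _ :=
  S.pc_hom_ext (by rw [pm_ι, CategoryTheory.Functor.map_id, Category.comp_id, Category.id_comp])

/-- the piece of the limit over an open -/
noncomputable abbrev wp (O : S.T.left.Opens) : X.ProEt := opObj S.W (S.w ⁻¹ᵁ O)

/-- inclusions of pieces of the limit -/
noncomputable def wm {O' O : S.T.left.Opens} (h : O' ≤ O) : S.wp O' ⟶ S.wp O :=
  MorphismProperty.Over.homMk (S.W.left.homOfLE (Scheme.Hom.preimage_mono _ h)) (by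
    change _ ≫ (S.w ⁻¹ᵁ O).ι ≫ _ = (S.w ⁻¹ᵁ O').ι ≫ _
    rw [← Category.assoc, Scheme.homOfLE_ι])

theorem wp_hom_ext {O : S.T.left.Opens} {V : X.ProEt} {f g : V ⟶ S.wp O}
    (h : f ≫ opHom S.W (S.w ⁻¹ᵁ O) = g ≫ opHom S.W (S.w ⁻¹ᵁ O)) : f = g :=
  MorphismProperty.Over.Hom.ext ((cancel_mono (S.w ⁻¹ᵁ O).ι).1 (congrArg (fun q => q.left) h))

theorem wm_ι {O' O : S.T.left.Opens} (h : O' ≤ O) :
    S.wm h ≫ opHom S.W (S.w ⁻¹ᵁ O) = opHom S.W (S.w ⁻¹ᵁ O') :=
  MorphismProperty.Over.Hom.ext (Scheme.homOfLE_ι _ (Scheme.Hom.preimage_mono _ h))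

theorem wm_comp {O'' O' O : S.T.left.Opens} (h : O'' ≤ O') (h' : O' ≤ O) :
    S.wm h ≫ S.wm h' = S.wm (h.trans h') :=
  S.wp_hom_ext (by rw [Category.assoc, wm_ι, wm_ι, wm_ι])

theorem b_le (O : S.T.left.Opens) (a : K) :
    S.w ⁻¹ᵁ O ≤ (S.b a).left ⁻¹ᵁ ((S.t a).left ⁻¹ᵁ O) := fun x hx => by
  show ((S.b a).left ≫ (S.t a).left).base x ∈ O
  rw [S.hw a]
  exact hx

/-- the map of a piece of the limit to the pieces of the members -/
noncomputable def pb (O : S.T.left.Opens) (a : K) : S.wp O ⟶ (ProEtS.eps X).obj (S.pc O a) :=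
  MorphismProperty.Over.homMk (Scheme.Hom.resLE (S.b a).left ((S.t a).left ⁻¹ᵁ O) (S.w ⁻¹ᵁ O) (S.b_le O a)) (by
    change _ ≫ ((S.t a).left ⁻¹ᵁ O).ι ≫ _ = (S.w ⁻¹ᵁ O).ι ≫ _
    refine (Category.assoc _ _ _).symm.trans ((congrArg (· ≫ (S.D.obj a).hom)
      (Scheme.Hom.resLE_comp_ι _ _)).trans ((Category.assoc _ _ _).trans ?_))
    exact congrArg _ (MorphismProperty.Over.w (S.b a)))

theorem pb_ι (O : S.T.left.Opens) (a : K) :
    S.pb O a ≫ (ProEtS.eps X).map (S.pcι O a) = opHom S.W (S.w ⁻¹ᵁ O) ≫ S.b a :=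
  MorphismProperty.Over.Hom.ext (Scheme.Hom.resLE_comp_ι _ _)

theorem pb_pm {O' O : S.T.left.Opens} (h : O' ≤ O) {a a' : K} (g : a ⟶ a') :
    S.pb O' a ≫ (ProEtS.eps X).map (S.pm h g) = S.wm h ≫ S.pb O a' := by
  refine MorphismProperty.Over.Hom.ext ((cancel_mono ((S.t a').left ⁻¹ᵁ O).ι).1 ?_)
  refine congrArg (fun q : S.wp O' ⟶ (ProEtS.eps X).obj (S.D.obj a') => q.left)
    (show (S.pb O' a ≫ (ProEtS.eps X).map (S.pm h g)) ≫ (ProEtS.eps X).map (S.pcι O a') =
      (S.wm h ≫ S.pb O a') ≫ (ProEtS.eps X).map (S.pcι O a') from ?_)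
  rw [Category.assoc, ← Functor.map_comp, pm_ι, Functor.map_comp, ← Category.assoc, pb_ι, Category.assoc, S.b_map,
    Category.assoc, pb_ι, ← Category.assoc, wm_ι]

/-- the map of a piece of the limit to the open -/
noncomputable def wO (O : S.T.left.Opens) : S.wp O ⟶ (ProEtS.eps X).obj (EtFound.restrictEtale S.T O) :=
  MorphismProperty.Over.homMk (Scheme.Hom.resLE S.w O (S.w ⁻¹ᵁ O) le_rfl) (by
    change _ ≫ O.ι ≫ S.T.hom = (S.w ⁻¹ᵁ O).ι ≫ S.W.hom
    obtain ⟨a⟩ := IsCofiltered.nonempty (C := K)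
    rw [← Category.assoc, Scheme.Hom.resLE_comp_ι, Category.assoc]
    refine congrArg _ ?_
    rw [← S.hw a, Category.assoc]
    exact (congrArg ((S.b a).left ≫ ·) (MorphismProperty.Over.w (S.t a))).trans (MorphismProperty.Over.w (S.b a)))

/-- the map of a piece to the open -/
noncomputable def pq (O : S.T.left.Opens) (a : K) : S.pc O a ⟶ EtFound.restrictEtale S.T O :=
  MorphismProperty.Over.homMk (Scheme.Hom.resLE (S.t a).left O ((S.t a).left ⁻¹ᵁ O) le_rfl) (by
    change _ ≫ O.ι ≫ _ = ((S.t a).left ⁻¹ᵁ O).ι ≫ _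
    rw [← Category.assoc, Scheme.Hom.resLE_comp_ι, Category.assoc, MorphismProperty.Over.w])

theorem pq_ι (O : S.T.left.Opens) (a : K) : (S.pq O a).left ≫ O.ι = ((S.t a).left ⁻¹ᵁ O).ι ≫ (S.t a).left :=
  Scheme.Hom.resLE_comp_ι _ _

/-- the pieces as schemes over the open -/
noncomputable def gO (O : S.T.left.Opens) : K ⥤ CategoryTheory.Over (EtFound.restrictEtale S.T O).left :=
  { obj := fun a => CategoryTheory.Over.mk (S.pq O a).left
    map := fun {a a'} g => CategoryTheory.Over.homMk (S.pm (le_refl O) g).left (by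
      refine (cancel_mono O.ι).1 ?_
      change ((S.pm (le_refl O) g).left ≫ (S.pq O a').left) ≫ O.ι = (S.pq O a).left ≫ O.ι
      rw [Category.assoc, pq_ι, pq_ι]
      refine (Category.assoc _ _ _).symm.trans ((congrArg (· ≫ (S.t a').left)
        (congrArg (fun f => f.left) (S.pm_ι (le_refl O) g))).trans ?_)
      exact (Category.assoc _ _ _).trans (congrArg (_ ≫ ·) (congrArg (fun f => f.left) (S.t_map g))))
    map_id := fun a => CategoryTheory.Over.OverMorphism.ext (congrArg (fun f => f.left) (S.pm_id O a))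
    map_comp := fun g g' => CategoryTheory.Over.OverMorphism.ext
      (congrArg (fun f : S.pc O _ ⟶ S.pc O _ => f.left) (S.pm_comp (le_refl O) (le_refl O) g g').symm) }

/-- the cone of pieces -/
noncomputable def piO (O : S.T.left.Opens) : (Functor.const K).obj (ovS (S.wO O)) ⟶ S.gO O :=
  { app := fun a => CategoryTheory.Over.homMk (S.pb O a).left (by
      refine (cancel_mono O.ι).1 ?_
      change ((S.pb O a).left ≫ (S.pq O a).left) ≫ O.ι = (S.wO O).left ≫ O.ι
      refine (Category.assoc _ _ _).trans ((congrArg ((S.pb O a).left ≫ ·) (S.pq_ι O a)).trans ?_)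
      refine ((Category.assoc _ _ _).symm.trans ((congrArg (· ≫ (S.t a).left)
        (congrArg (fun f => f.left) (S.pb_ι O a))).trans ?_)).trans (Scheme.Hom.resLE_comp_ι _ _).symm
      exact (Category.assoc _ _ _).trans (congrArg (_ ≫ ·) (S.hw a)))
    naturality := fun a a' g => CategoryTheory.Over.OverMorphism.ext (by
      change 𝟙 _ ≫ (S.pb O a').left = (S.pb O a).left ≫ (S.pm (le_refl O) g).left
      rw [Category.id_comp]
      refine (cancel_mono ((S.t a').left ⁻¹ᵁ O).ι).1 ?_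
      refine congrArg (fun q : S.wp O ⟶ (ProEtS.eps X).obj (S.D.obj a') => q.left)
        (show S.pb O a' ≫ (ProEtS.eps X).map (S.pcι O a') =
          (S.pb O a ≫ (ProEtS.eps X).map (S.pm (le_refl O) g)) ≫ (ProEtS.eps X).map (S.pcι O a') from ?_)
      rw [Category.assoc, ← Functor.map_comp, pm_ι, Functor.map_comp, ← Category.assoc, pb_ι, pb_ι,
        Category.assoc, S.b_map]) }

/-- the piece of the limit is the limit of the pieces -/
theorem nonempty_isLimit_piO (O : S.T.left.Opens) :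
    Nonempty (IsLimit ((CategoryTheory.Over.forget _).mapCone (Cone.mk (ovS (S.wO O)) (S.piO O)))) := by
  let mk' : ∀ s : Cone (S.gO O ⋙ CategoryTheory.Over.forget _), Cone (S.D ⋙ Scheme.Etale.forget X ⋙ CategoryTheory.Over.forget X) :=
    fun s => Cone.mk s.pt
      { app := fun a => s.π.app a ≫ ((S.t a).left ⁻¹ᵁ O).ι
        naturality := fun a a' g => by
          refine (Category.id_comp _).trans ?_
          rw [← s.w g]
          exact (Category.assoc _ _ _).trans ((congrArg (s.π.app a ≫ ·)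
            (congrArg (fun f => f.left) (S.pm_ι (le_refl O) g))).trans (Category.assoc _ _ _).symm) }
  have hl : ∀ s : Cone (S.gO O ⋙ CategoryTheory.Over.forget _), ∃ l : s.pt ⟶ (S.w ⁻¹ᵁ O).toScheme,
      ∀ a, l ≫ (S.pb O a).left = s.π.app a := fun s => by
    have h0 : ∀ a, S.lim.lift (mk' s) ≫ (S.b a).left = s.π.app a ≫ ((S.t a).left ⁻¹ᵁ O).ι :=
      fun a => S.lim.fac (mk' s) a
    obtain ⟨a₀⟩ := IsCofiltered.nonempty (C := K)
    have hr : Set.range (S.lim.lift (mk' s)).base ⊆ Set.range (S.w ⁻¹ᵁ O).ι.base := by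
      rintro _ ⟨z, rfl⟩
      rw [Scheme.Opens.range_ι]
      show S.w.base ((S.lim.lift (mk' s)).base z) ∈ O
      rw [← S.hw a₀, ← Scheme.Hom.comp_apply, ← Category.assoc, h0 a₀]
      exact ((s.π.app a₀).base z).2
    refine ⟨IsOpenImmersion.lift (S.w ⁻¹ᵁ O).ι _ hr, fun a => (cancel_mono ((S.t a).left ⁻¹ᵁ O).ι).1 ?_⟩
    exact (Category.assoc _ _ _).trans ((congrArg (IsOpenImmersion.lift (S.w ⁻¹ᵁ O).ι _ hr ≫ ·)
      (congrArg (fun f => f.left) (S.pb_ι O a))).trans ((Category.assoc _ _ _).symm.trans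
        ((congrArg (· ≫ (S.b a).left) (IsOpenImmersion.lift_fac _ _ hr)).trans (h0 a))))
  refine ⟨
    { lift := fun s => (hl s).choose
      fac := fun s a => (hl s).choose_spec a
      uniq := fun s m hm => (cancel_mono (S.w ⁻¹ᵁ O).ι).1 (S.lim.hom_ext fun a => ?_) }⟩
  have e : ∀ l : s.pt ⟶ (S.w ⁻¹ᵁ O).toScheme, l ≫ (S.pb O a).left = s.π.app a →
      (l ≫ (S.w ⁻¹ᵁ O).ι) ≫ (S.b a).left = s.π.app a ≫ ((S.t a).left ⁻¹ᵁ O).ι := fun l hl => by
    rw [← hl]
    exact (Category.assoc _ _ _).trans ((congrArg (l ≫ ·) (congrArg (fun f => f.left) (S.pb_ι O a)).symm).trans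
      (Category.assoc _ _ _).symm)
  exact (e m (hm a)).trans (e _ ((hl s).choose_spec a)).symm

theorem isAffine_gO (O : S.T.left.Opens) (hO : IsAffineOpen O) (a : K) : IsAffine ((S.gO O).obj a).left :=
  S.affine a O hO

theorem isPro_wO (O : S.T.left.Opens) (hO : IsAffineOpen O) :
    haveI : IsAffine (EtFound.restrictEtale S.T O).left := hO
    IsPro (ovS (S.wO O)) := by
  have : IsAffine (EtFound.restrictEtale S.T O).left := hO
  have : IsAffine (ovS (S.wO O)).left := S.affineW O hO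
  have : ∀ a, IsAffine ((S.gO O).obj a).left := S.isAffine_gO O hO
  have : ∀ a, Etale ((S.gO O).obj a).hom := fun a => EtFound.etale_left (S.pq O a)
  obtain ⟨h⟩ := S.nonempty_isLimit_piO O
  exact isPro_of_isLimit (S.gO O) (S.piO O) h

end Sys

end Groth.Agent.ProDI71
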