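import Groth.Agent.ProDI71.Geom

/-!
# The comparison `ε⁻¹ f_* ⟶ f_* ε⁻¹` on complexes
-/

universe u

open CategoryTheory CategoryTheory.Limits AlgebraicGeometry Opposite MorphismProperty

namespace Groth.Agent.ProDI71

open ProStage SitePullUnit ProEtLib

set_option backward.isDefEq.respectTransparency.types false
set_option maxHeartbeats 1000000

variable {X Y : Scheme.{u}} (f : X ⟶ Y) [ProEtS.EpsCont X] [ProEtS.EpsCont Y] [ProEtS.PCont f]

/-- the unit of `ε⁻¹` over base changed objects -/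
noncomputable def phiApp (E : EtCoh.Ab X) :
    (EtCoh.push f).obj E ⟶ (ProEtS.epsPush Y).obj ((ProEtS.pushP f).obj ((pullC X).obj E)) :=
  ⟨{ app := fun U => (conUnit (ProEtS.eps X) (Scheme.ProEt.topology X) E).app (op ((EtCoh.bc f).obj U.unop))
     naturality := fun U U' g =>
      (conUnit (ProEtS.eps X) (Scheme.ProEt.topology X) E).naturality ((EtCoh.bc f).map g.unop).op }⟩

theorem phiApp_apply (E : EtCoh.Ab X) (U : Y.Etale) (x : E.obj.obj (op ((EtCoh.bc f).obj U))) :
    (phiApp f E).hom.app (op U) x =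
      (conUnit (ProEtS.eps X) (Scheme.ProEt.topology X) E).app (op ((EtCoh.bc f).obj U)) x := rfl

theorem phiApp_naturality [RepresentablyFlat (ProEtS.eps X)] {E E' : EtCoh.Ab X} (a : E ⟶ E') :
    (EtCoh.push f).map a ≫ phiApp f E' =
      phiApp f E ≫ (ProEtS.epsPush Y).map ((ProEtS.pushP f).map ((pullC X).map a)) := by
  refine Sheaf.hom_ext (NatTrans.ext (funext fun U => ?_))
  ext x
  have h := map_sGerm_app a (𝟙 ((ProEtS.eps X).obj ((EtCoh.bc f).obj U.unop))) x
  rw [sGerm, sGerm, op_id, CategoryTheory.Functor.map_id, CategoryTheory.Functor.map_id] at h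
  exact h.symm

variable [RepresentablyFlat (ProEtS.eps X)] [RepresentablyFlat (ProEtS.eps Y)]

/-- the comparison -/
noncomputable def theta : EtCoh.push f ⋙ pullC Y ⟶ pullC X ⋙ ProEtS.pushP f where
  app E := ((ProLoc71.adC (X := Y)).homEquiv _ _).symm (phiApp f E)
  naturality E E' a := by
    change (pullC Y).map ((EtCoh.push f).map a) ≫ _ = _ ≫ (ProEtS.pushP f).map ((pullC X).map a)
    refine ((Adjunction.homEquiv_naturality_left_symm _ _ _).symm.trans ?_).trans
      (Adjunction.homEquiv_naturality_right_symm _ _ _)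
    exact congrArg _ (phiApp_naturality f a)

theorem theta_sGerm (E : EtCoh.Ab X) {d : Y.ProEt} {U : Y.Etale} (b : d ⟶ (ProEtS.eps Y).obj U)
    (x : E.obj.obj (op ((EtCoh.bc f).obj U))) :
    ((theta f).app E).hom.app (op d) (sGerm (ProEtS.eps Y) (Scheme.ProEt.topology Y) ((EtCoh.push f).obj E) b x) =
      ((pullC X).obj E).obj.map ((ProEtS.bcP f).map b).op
        ((conUnit (ProEtS.eps X) (Scheme.ProEt.topology X) E).app (op ((EtCoh.bc f).obj U)) x) := by
  change ((((ProLoc71.adC (X := Y)).homEquiv _ _).symm (phiApp f E))).hom.app (op d) _ = _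
  rw [Adjunction.homEquiv_counit]
  change ((ProLoc71.adC (X := Y)).counit.app _).hom.app (op d)
    (((pullC Y).map (phiApp f E)).hom.app (op d) _) = _
  rw [map_sGerm_app, ProLoc71.counit_sGerm]
  rfl

variable (I : CochainComplex (EtCoh.Ab X) ℤ) (J : CochainComplex (ProEtS.AbP X) ℤ)
  (ρ : ((pullC X).mapHomologicalComplex (ComplexShape.up ℤ)).obj I ⟶ J)

/-- the comparison of complexes -/
noncomputable def eta :
    ((pullC Y).mapHomologicalComplex (ComplexShape.up ℤ)).obj
        (((EtCoh.push f).mapHomologicalComplex (ComplexShape.up ℤ)).obj I) ⟶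
      ((ProEtS.pushP f).mapHomologicalComplex (ComplexShape.up ℤ)).obj J where
  f n := (theta f).app (I.X n) ≫ (ProEtS.pushP f).map (ρ.f n)
  comm' i j _ := by
    change ((theta f).app (I.X i) ≫ (ProEtS.pushP f).map (ρ.f i)) ≫ (ProEtS.pushP f).map (J.d i j) =
      (pullC Y).map ((EtCoh.push f).map (I.d i j)) ≫ (theta f).app (I.X j) ≫ (ProEtS.pushP f).map (ρ.f j)
    have h := ρ.comm i j
    refine (Category.assoc _ _ _).trans (((congrArg ((theta f).app (I.X i) ≫ ·)
      (((ProEtS.pushP f).map_comp _ _).symm.trans ((congrArg (ProEtS.pushP f).map h).trans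
        ((ProEtS.pushP f).map_comp _ _)))).trans (Category.assoc _ _ _).symm).trans ?_)
    exact (congrArg (· ≫ (ProEtS.pushP f).map (ρ.f j)) ((theta f).naturality (I.d i j)).symm).trans
      (Category.assoc _ _ _)

theorem eta_sGerm (n : ℤ) {d : Y.ProEt} {U : Y.Etale} (b : d ⟶ (ProEtS.eps Y).obj U)
    (x : (I.X n).obj.obj (op ((EtCoh.bc f).obj U))) :
    ((eta f I J ρ).f n).hom.app (op d)
        (sGerm (ProEtS.eps Y) (Scheme.ProEt.topology Y) ((EtCoh.push f).obj (I.X n)) b x) =
      (ρ.f n).hom.app (op ((ProEtS.bcP f).obj d))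
        (((pullC X).obj (I.X n)).obj.map ((ProEtS.bcP f).map b).op
          ((conUnit (ProEtS.eps X) (Scheme.ProEt.topology X) (I.X n)).app (op ((EtCoh.bc f).obj U)) x)) := by
  change (ρ.f n).hom.app (op ((ProEtS.bcP f).obj d)) (((theta f).app (I.X n)).hom.app (op d) _) = _
  rw [theta_sGerm]

end Groth.Agent.ProDI71
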